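import Cfsg.Agent.Lib.ZJControl.Fusion

/-!
# A maximal witness against control of strong fusion by a subgroup `X` containing `N(S)`

* `Failing X S U`: some `g ∈ N(U)` is not induced on `U` by `X`;
* `exists_maximal`: a failing `E`, lexicographically maximal in `(|N_S(E)|, |E|)`; `N_S(E)` is Sylow in `N(E)`;
* `Maximal.centric`, `Maximal.exists_minimal`, `Maximal.inf_le_of_normal`.
-/

set_option autoImplicit false
set_option linter.style.haveILetI false

namespace Cfsg.Agent.ZJFailure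

open Subgroup
open scoped commutatorElement Pointwise
open Cfsg.Agent.ZJControl (Ctl)
open Cfsg.Agent.Transfer (IsGoldschmidt FusionChain FusionChainUpTo)

universe u

variable {G : Type u} [Group G] {p : ℕ}

/-- Normalizers of a join. -/
theorem le_normalizer_sup {L A B : Subgroup G} (hA : L ≤ normalizer (A : Set G))
    (hB : L ≤ normalizer (B : Set G)) : L ≤ normalizer ((A ⊔ B : Subgroup G) : Set G) := fun g hg => by
  rw [mem_normalizer_iff_map_conj_eq, Subgroup.map_sup, mem_normalizer_iff_map_conj_eq.1 (hA hg),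
    mem_normalizer_iff_map_conj_eq.1 (hB hg)]

/-- The inverse map. -/
theorem ctl_inv {X : Subgroup G} {A : Set G} {g : G} (h : Ctl X A g) :
    Ctl X ((fun a => g * a * g⁻¹) '' A) g⁻¹ := by
  obtain ⟨x, hx, he⟩ := h
  refine ⟨x⁻¹, inv_mem hx, ?_⟩
  rintro _ ⟨a, ha, rfl⟩
  dsimp only
  rw [show g⁻¹ * (g * a * g⁻¹) * g⁻¹⁻¹ = a by group, he a ha]
  group

/-- A chain not induced by `X` has a step not induced by `X`, its member containing a conjugate. -/
theorem exists_step_of_chain {X : Subgroup G} {C : Subgroup G → Prop} {A : Set G} {g : G}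
    (h : FusionChain C A g) (hn : ¬ Ctl X A g⁻¹) :
    ∃ D, C D ∧ (∃ x ∈ normalizer (D : Set G), ¬ Ctl X (D : Set G) x) ∧
      ∃ c : G, ∀ a ∈ A, c * a * c⁻¹ ∈ D := by
  induction h with
  | one A => exact absurd (Ctl.of_mem (by simp [one_mem])) hn
  | @step A D x h hD hA hx _ ih =>
    by_cases hc : Ctl X (D : Set G) x⁻¹
    · by_cases ht : Ctl X ((fun a => x⁻¹ * a * x) '' A) h⁻¹
      · refine absurd ?_ hn
        rw [mul_inv_rev]
        exact (hc.mono le_rfl hA).comp ht fun a ha => ⟨a, ha, by simp⟩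
      · obtain ⟨D', hD', hf, c, hcA⟩ := ih ht
        refine ⟨D', hD', hf, c * x⁻¹, fun a ha => ?_⟩
        have := hcA _ ⟨a, ha, rfl⟩
        simpa [mul_assoc] using this
    · exact ⟨D, hD, ⟨x⁻¹, inv_mem hx, hc⟩, 1, fun a ha => by simpa using hA ha⟩

/-- Some `g ∈ N(U)` is not induced on `U ≤ S` by `X`. -/
def Failing (X S U : Subgroup G) : Prop :=
  U ≤ S ∧ ∃ g ∈ normalizer (U : Set G), ¬ Ctl X (U : Set G) g

variable [Finite G] [Fact p.Prime]

theorem exists_failing (S : Sylow p G) {X : Subgroup G} {A : Set G} {g : G} (hA : A ⊆ (S : Set G))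
    (hAg : ∀ a ∈ A, g * a * g⁻¹ ∈ S) (hn : ¬ Ctl X A g) :
    ∃ D, Failing X (S : Subgroup G) D ∧ ∃ c : G, ∀ a ∈ A, c * a * c⁻¹ ∈ D := by
  obtain ⟨c, hc, hch⟩ := Transfer.alperin_goldschmidt S A g⁻¹ hA (by simpa using hAg)
  have hn' : ¬ Ctl X A (c⁻¹ * g⁻¹)⁻¹ := by
    rintro ⟨x, hx, he⟩
    refine hn ⟨x, hx, fun a ha => ?_⟩
    rw [← he a ha]
    have hca : a * c = c * a := mem_centralizer_iff.1 hc a ha
    calc g * a * g⁻¹ = g * (a * c) * c⁻¹ * g⁻¹ := by group
      _ = g * (c * a) * c⁻¹ * g⁻¹ := by rw [hca]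
      _ = _ := by group
  obtain ⟨D, hD, hf, hcD⟩ := exists_step_of_chain hch hn'
  exact ⟨D, ⟨hD.1, hf⟩, hcD⟩

/-- A failing subgroup, maximal for `(|N_S(U)|, |U|)`. -/
structure Maximal (X : Subgroup G) (S : Sylow p G) (E : Subgroup G) : Prop where
  normalizer_le : normalizer ((S : Subgroup G) : Set G) ≤ X
  failing : Failing X (S : Subgroup G) E
  sylow : ¬ p ∣ ((S : Subgroup G) ⊓ normalizer (E : Set G)).relIndex (normalizer (E : Set G))
  max : ∀ U : Subgroup G, Failing X (S : Subgroup G) U →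
    Nat.card ↥((S : Subgroup G) ⊓ normalizer (U : Set G)) <
        Nat.card ↥((S : Subgroup G) ⊓ normalizer (E : Set G)) ∨
      Nat.card ↥((S : Subgroup G) ⊓ normalizer (U : Set G)) =
          Nat.card ↥((S : Subgroup G) ⊓ normalizer (E : Set G)) ∧ Nat.card U ≤ Nat.card E

omit [Fact p.Prime] in
theorem not_failing_self {S : Sylow p G} {X : Subgroup G}
    (hX : normalizer ((S : Subgroup G) : Set G) ≤ X) {U : Subgroup G}
    (hU : Failing X (S : Subgroup G) U) : U ≠ (S : Subgroup G) := by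
  rintro rfl
  obtain ⟨-, g, hg, hn⟩ := hU
  exact hn (Ctl.of_mem (hX hg))

theorem exists_maximal (S : Sylow p G) {X : Subgroup G}
    (hX : normalizer ((S : Subgroup G) : Set G) ≤ X) {A : Set G} {g : G} (hA : A ⊆ (S : Set G))
    (hAg : ∀ a ∈ A, g * a * g⁻¹ ∈ S) (hn : ¬ Ctl X A g) : ∃ E, Maximal X S E := by
  obtain ⟨D, hD, -⟩ := exists_failing S hA hAg hn
  obtain ⟨E, hE, hEmax⟩ := (Set.toFinite {U : Subgroup G | Failing X (S : Subgroup G) U}).exists_maximalFor
    (fun U : Subgroup G => Nat.card ↥((S : Subgroup G) ⊓ normalizer (U : Set G)) *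
      (Nat.card G + 1) + Nat.card U) _ ⟨D, hD⟩
  have hle : ∀ U : Subgroup G, Nat.card U ≤ Nat.card G := fun U =>
    Nat.le_of_dvd Nat.card_pos (card_subgroup_dvd_card U)
  have hmax : ∀ U, Failing X (S : Subgroup G) U →
      Nat.card ↥((S : Subgroup G) ⊓ normalizer (U : Set G)) <
          Nat.card ↥((S : Subgroup G) ⊓ normalizer (E : Set G)) ∨
        Nat.card ↥((S : Subgroup G) ⊓ normalizer (U : Set G)) =
            Nat.card ↥((S : Subgroup G) ⊓ normalizer (E : Set G)) ∧ Nat.card U ≤ Nat.card E := by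
    intro U hU
    have h1 := hle U
    have h2 := hle E
    set a := Nat.card ↥((S : Subgroup G) ⊓ normalizer (U : Set G))
    set b := Nat.card ↥((S : Subgroup G) ⊓ normalizer (E : Set G))
    rcases lt_trichotomy a b with hlt | heq | hgt
    · exact Or.inl hlt
    · refine Or.inr ⟨heq, ?_⟩
      by_contra hcon
      have := hEmax hU (by
        show b * (Nat.card G + 1) + Nat.card E ≤ a * (Nat.card G + 1) + Nat.card U
        rw [heq]; omega)
      change a * (Nat.card G + 1) + Nat.card U ≤ b * (Nat.card G + 1) + Nat.card E at this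
      rw [heq] at this
      omega
    · have h3 : (b + 1) * (Nat.card G + 1) ≤ a * (Nat.card G + 1) := Nat.mul_le_mul_right _ hgt
      rw [Nat.succ_mul] at h3
      have := hEmax hU (by
        show b * (Nat.card G + 1) + Nat.card E ≤ a * (Nat.card G + 1) + Nat.card U
        omega)
      change a * (Nat.card G + 1) + Nat.card U ≤ b * (Nat.card G + 1) + Nat.card E at this
      omega
  refine ⟨E, hX, hE, ?_, hmax⟩
  -- `N_S(E)` is Sylow in `N(E)`
  set N := normalizer (E : Set G) with hN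
  set P := (S : Subgroup G) ⊓ N with hP
  have hPp : IsPGroup p (P.subgroupOf N) := (S.2.to_le inf_le_left).comap_subtype
  obtain ⟨Q, hQ⟩ := hPp.exists_le_sylow
  set Q' := (Q : Subgroup N).map N.subtype with hQ'
  obtain ⟨R, hR⟩ := (Q.2.map N.subtype).exists_le_sylow
  obtain ⟨k, hk⟩ := MulAction.exists_smul_eq G R S
  have hkQ : ∀ x ∈ Q', k * x * k⁻¹ ∈ (S : Subgroup G) := fun x hx => by
    rw [← hk, Sylow.coe_subgroup_smul]
    exact Subgroup.smul_mem_pointwise_smul _ (MulAut.conj k) _ (hR hx)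
  have hPQ : P ≤ Q' := fun x hx => ⟨⟨x, hx.2⟩, hQ hx, rfl⟩
  have hEP : E ≤ P := le_inf hE.1 le_normalizer
  -- `k` is induced by `X` on `N_S(E)`
  have hk' : Ctl X (P : Set G) k := by
    by_contra hcon
    obtain ⟨D, hD, c, hc⟩ := exists_failing S (fun x hx => hx.1) (fun a ha => hkQ a (hPQ ha)) hcon
    have hcard : Nat.card P ≤ Nat.card D := by
      have h' : P.map (MulAut.conj c).toMonoidHom ≤ D := by
        rintro _ ⟨a, ha, rfl⟩
        exact hc a ha
      have h'' := Nat.le_of_dvd Nat.card_pos (card_dvd_of_le h')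
      rwa [card_map_of_injective (MulAut.conj c).injective] at h''
    have hlt := Transfer.lt_inf_normalizer_of_lt S.2
      (lt_of_le_of_ne hD.1 (not_failing_self hX hD))
    have hlt' : Nat.card D < Nat.card ↥((S : Subgroup G) ⊓ normalizer (D : Set G)) := by
      by_contra hle'
      rw [inf_comm] at hlt hle'
      exact hlt.ne (eq_of_le_of_card_ge hlt.le (not_lt.1 hle'))
    rcases hmax D hD with h | ⟨h, -⟩ <;> omega
  set U := E.map (MulAut.conj k).toMonoidHom with hU
  have hUS : U ≤ (S : Subgroup G) := by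
    rintro _ ⟨a, ha, rfl⟩
    exact hkQ a (hPQ (hEP ha))
  have hUf : Failing X (S : Subgroup G) U := by
    obtain ⟨-, g, hg, hng⟩ := hE
    refine ⟨hUS, k * g * k⁻¹, ?_, fun hc => hng ?_⟩
    · exact le_normalizer_map (MulAut.conj k).toMonoidHom ⟨g, hg, rfl⟩
    have h1 : Ctl X (E : Set G) k := hk'.mono le_rfl hEP
    have h2 : Ctl X (E : Set G) (k * g * k⁻¹ * k) :=
      h1.comp hc fun a ha => ⟨a, ha, rfl⟩
    have h3 := h2.comp (ctl_inv h1) fun a ha => by
      refine ⟨g * a * g⁻¹, (mem_normalizer_iff.1 hg a).1 ha, ?_⟩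
      group
    simpa [mul_assoc] using h3
  have hQU : Q'.map (MulAut.conj k).toMonoidHom ≤ (S : Subgroup G) ⊓ normalizer (U : Set G) := by
    rintro _ ⟨a, ha, rfl⟩
    exact ⟨hkQ a ha, le_normalizer_map (MulAut.conj k).toMonoidHom ⟨a, (map_subtype_le _) ha, rfl⟩⟩
  have hcard : Nat.card Q' ≤ Nat.card P := by
    have h1 := Nat.le_of_dvd Nat.card_pos (card_dvd_of_le hQU)
    rw [card_map_of_injective (MulAut.conj k).injective] at h1
    rcases hmax U hUf with h | ⟨h, -⟩ <;> omega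
  have heq : P = Q' := eq_of_le_of_card_ge hPQ hcard
  show ¬ p ∣ P.relIndex N
  rw [heq, hQ', relIndex, subgroupOf, comap_map_eq_self_of_injective N.subtype_injective]
  exact Q.not_dvd_index

/-- Frattini. -/
theorem exists_mul_mem_normalizer {L P N₁ : Subgroup G} (hPL : P ≤ L) (hP : IsPGroup p P)
    (hidx : ¬ p ∣ P.relIndex L) (hN₁ : N₁ ≤ L) (hn : L ≤ normalizer (N₁ : Set G)) {g : G} (hg : g ∈ L) :
    ∃ m ∈ N₁, ∃ n ∈ L, n ∈ normalizer ((P ⊓ N₁ : Subgroup G) : Set G) ∧ m * n = g := by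
  have hp : IsPGroup p (P.subgroupOf L) := hP.comap_subtype
  set T : Sylow p L := hp.toSylow hidx
  haveI : (N₁.subgroupOf L).Normal := ⟨fun x hx y => (mem_normalizer_iff.1 (hn y.2) _).1 hx⟩
  obtain ⟨m, hm, n, hn', e⟩ := mem_sup_of_normal_left.1
    ((Transfer.sup_normalizer_inf_eq_top T (N₁.subgroupOf L)).symm ▸ mem_top (⟨g, hg⟩ : L))
  refine ⟨m, hm, n, n.2, ?_, congrArg Subtype.val e⟩
  have h := le_normalizer_map L.subtype ⟨n, hn', rfl⟩
  rw [show ((T : Subgroup L) ⊓ N₁.subgroupOf L).map L.subtype = P ⊓ N₁ by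
    rw [show (T : Subgroup L) = P.subgroupOf L from rfl, map_inf _ _ _ L.subtype_injective,
      map_subgroupOf_eq_of_le hPL, map_subgroupOf_eq_of_le hN₁]] at h
  exact h

/-- Every `p`-subgroup of `L` is conjugate in `L` into `P`. -/
theorem exists_conj_le {L P R : Subgroup G} (hP : IsPGroup p P)
    (hidx : ¬ p ∣ P.relIndex L) (hR : IsPGroup p R) (hRL : R ≤ L) :
    ∃ l ∈ L, ∀ r ∈ R, l * r * l⁻¹ ∈ P := by
  have hp : IsPGroup p (P.subgroupOf L) := hP.comap_subtype
  set T : Sylow p L := hp.toSylow hidx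
  obtain ⟨Q, hQ⟩ := (hR.comap_subtype (K := L)).exists_le_sylow
  obtain ⟨l, hl⟩ := MulAction.exists_smul_eq L Q T
  refine ⟨l, l.2, fun r hr => ?_⟩
  have : MulAut.conj l • (⟨r, hRL hr⟩ : L) ∈ ((l • Q : Sylow p L) : Subgroup L) := by
    rw [Sylow.coe_subgroup_smul]
    exact Subgroup.smul_mem_pointwise_smul _ _ _ (hQ hr)
  rw [hl] at this
  exact this

variable {X : Subgroup G} {S : Sylow p G} {E : Subgroup G}

/-- `N_S(E)`. -/
abbrev nS (S : Sylow p G) (E : Subgroup G) : Subgroup G := (S : Subgroup G) ⊓ normalizer (E : Set G)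

/-- The elements of `N(E)` induced on `E` by `X`. -/
def good (X E : Subgroup G) : Subgroup G where
  carrier := {g | g ∈ normalizer (E : Set G) ∧ Ctl X (E : Set G) g}
  one_mem' := ⟨one_mem _, Ctl.of_mem (one_mem _)⟩
  mul_mem' := by
    rintro a b ⟨ha, ha'⟩ ⟨hb, hb'⟩
    exact ⟨mul_mem ha hb, hb'.comp ha' fun e he => (mem_normalizer_iff.1 hb e).1 he⟩
  inv_mem' := by
    rintro a ⟨ha, ha'⟩
    refine ⟨inv_mem ha, (ctl_inv ha').mono le_rfl fun e he =>
      ⟨a⁻¹ * e * a, ?_, by group⟩⟩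
    simpa using (mem_normalizer_iff.1 (inv_mem ha) e).1 he

omit [Finite G] in
theorem centralizer_le_good : centralizer (E : Set G) ≤ good X E := fun g hg =>
  ⟨centralizer_le_normalizer _ hg, ⟨1, one_mem _, fun e he => by
    rw [mul_inv_eq_iff_eq_mul]
    simpa using (mem_centralizer_iff.1 hg e he).symm⟩⟩

namespace Maximal

variable (h : Maximal X S E)
include h

theorem le_nS : E ≤ nS S E := le_inf h.failing.1 le_normalizer

theorem sylow_le : (S : Subgroup G) ≤ X := le_normalizer.trans h.normalizer_le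

theorem nS_le_good : nS S E ≤ good X E := fun _ hg =>
  ⟨hg.2, Ctl.of_mem (h.sylow_le hg.1)⟩

theorem le_good : E ≤ good X E := h.le_nS.trans h.nS_le_good

theorem not_normalizer_le_good : ¬ normalizer (E : Set G) ≤ good X E := fun hle => by
  obtain ⟨-, g, hg, hn⟩ := h.failing
  exact hn (hle hg).2

theorem isPGroup_nS : IsPGroup p (nS S E) := S.2.to_le inf_le_left

/-- Above `E` and normal in `N_S(E)` everything is induced by `X`. -/
theorem ctl_of_lt {R : Subgroup G} (hlt : E < R) (hR : R ≤ nS S E)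
    (hn : nS S E ≤ normalizer (R : Set G)) {g : G} (hg : g ∈ normalizer (R : Set G)) :
    Ctl X (R : Set G) g := by
  by_contra hcon
  have hlt' : Nat.card E < Nat.card R := by
    by_contra hle
    exact hlt.ne (eq_of_le_of_card_ge hlt.le (not_lt.1 hle))
  have h1 : Nat.card (nS S E) ≤ Nat.card (nS S R) :=
    Nat.le_of_dvd Nat.card_pos (card_dvd_of_le (le_inf inf_le_left hn))
  simp only [nS] at h1
  rcases h.max R ⟨hR.trans inf_le_left, g, hg, hcon⟩ with h2 | ⟨-, h2⟩ <;> omega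

theorem mem_good_of_lt {R : Subgroup G} (hlt : E < R) (hR : R ≤ nS S E)
    (hn : nS S E ≤ normalizer (R : Set G)) {g : G} (hg : g ∈ normalizer (R : Set G))
    (hgE : g ∈ normalizer (E : Set G)) : g ∈ good X E :=
  ⟨hgE, (h.ctl_of_lt hlt hR hn hg).mono le_rfl hlt.le⟩

theorem eq_of_frattini {N₁ : Subgroup G} (hN₁ : N₁ ≤ good X E) (hE : E ≤ N₁) {L : Subgroup G}
    (hPL : nS S E ≤ L) (hLE : L ≤ normalizer (E : Set G)) (hN₁L : N₁ ≤ L)
    (hn : L ≤ normalizer (N₁ : Set G)) (hL : ¬ L ≤ good X E) : nS S E ⊓ N₁ = E := by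
  by_contra hne
  refine hL fun g hg => ?_
  have hidx : ¬ p ∣ (nS S E).relIndex L := fun hdvd =>
    h.sylow (hdvd.trans (Dvd.intro _ (relIndex_mul_relIndex _ _ _ hPL hLE)))
  obtain ⟨m, hm, n, hnL, hnN, rfl⟩ := exists_mul_mem_normalizer hPL h.isPGroup_nS hidx hN₁L hn hg
  refine mul_mem (hN₁ hm) (h.mem_good_of_lt (lt_of_le_of_ne (le_inf h.le_nS hE) (Ne.symm hne))
    inf_le_left ((le_inf le_normalizer (hPL.trans hn)).trans inf_normalizer_le_normalizer_inf) hnN
      (hLE hnL))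

/-- `C_S(E) ≤ E`. -/
theorem centric : (S : Subgroup G) ⊓ centralizer (E : Set G) ≤ E := by
  have hn : normalizer (E : Set G) ≤ normalizer ((centralizer (E : Set G) ⊔ E : Subgroup G) : Set G) :=
    le_normalizer_sup ((normal_subgroupOf_iff_le_normalizer (centralizer_le_normalizer _)).1 inferInstance) le_rfl
  have hle : centralizer (E : Set G) ⊔ E ≤ normalizer (E : Set G) :=
    sup_le (centralizer_le_normalizer _) le_normalizer
  have := h.eq_of_frattini (sup_le centralizer_le_good h.le_good) le_sup_right inf_le_right le_rfl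
    hle hn h.not_normalizer_le_good
  intro c hc
  rw [← this]
  exact ⟨⟨hc.1, centralizer_le_normalizer _ hc.2⟩, mem_sup_left hc.2⟩

/-- `C(E) ≤ O_{p'}(N(E)) E`. -/
theorem centralizer_le_core_sup : centralizer (E : Set G) ≤
    (Cfsg.pPrimeCore p ↥(normalizer (E : Set G))).map (normalizer (E : Set G)).subtype ⊔ E := by
  set N := normalizer (E : Set G)
  have hp : IsPGroup p ((nS S E).subgroupOf N) := h.isPGroup_nS.comap_subtype
  set T : Sylow p N := hp.toSylow h.sylow
  haveI : ((centralizer (E : Set G)).subgroupOf N).Normal := by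
    rw [← normalizerMonoidHom_ker]
    infer_instance
  have h1 := Transfer.le_pPrimeCore_sup_of_inf_le T ((centralizer (E : Set G)).subgroupOf N)
    (E.subgroupOf N) (fun c hc d hd => Subtype.ext (mem_centralizer_iff.mp hc (d : G) hd).symm)
    (fun c hc => h.centric ⟨hc.1.1, hc.2⟩)
  intro c hc
  obtain ⟨d, hd, e, he, hde⟩ := mem_sup_of_normal_left.1
    (h1 (show (⟨c, centralizer_le_normalizer _ hc⟩ : N) ∈ _ from hc))
  have e' : (d : G) * (e : G) = c := congrArg Subtype.val hde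
  exact e' ▸ mul_mem (mem_sup_left ⟨d, hd, rfl⟩) (mem_sup_right he)

/-- A minimal subgroup `L` between `N_S(E)` and `N(E)` with an element not induced by `X`. -/
theorem exists_minimal : ∃ L : Subgroup G, nS S E ≤ L ∧ L ≤ normalizer (E : Set G) ∧
    ¬ L ≤ good X E ∧ ∀ Y : Subgroup G, nS S E ≤ Y → Y < L → Y ≤ good X E := by
  obtain ⟨L, ⟨h1, h2, h3⟩, hmin⟩ := (Set.toFinite {L : Subgroup G |
    nS S E ≤ L ∧ L ≤ normalizer (E : Set G) ∧ ¬ L ≤ good X E}).exists_minimal
    ⟨_, inf_le_right, le_rfl, h.not_normalizer_le_good⟩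
  refine ⟨L, h1, h2, h3, fun Y hY hlt => ?_⟩
  by_contra hcon
  exact hlt.not_ge (hmin ⟨hY, hlt.le.trans h2, hcon⟩ hlt.le)

/-- A subgroup normal in `L` consisting of elements induced by `X` meets `N_S(E)` inside `E`. -/
theorem inf_le_of_normal {N₁ L : Subgroup G} (hN₁ : N₁ ≤ good X E) (hPL : nS S E ≤ L)
    (hLE : L ≤ normalizer (E : Set G)) (hN₁L : N₁ ≤ L) (hn : L ≤ normalizer (N₁ : Set G))
    (hL : ¬ L ≤ good X E) : nS S E ⊓ N₁ ≤ E := by
  have := h.eq_of_frattini (sup_le hN₁ h.le_good) le_sup_right hPL hLE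
    (sup_le hN₁L (h.le_nS.trans hPL)) (le_normalizer_sup hn hLE) hL
  intro x hx
  rw [← this]
  exact ⟨hx.1, mem_sup_left hx.2⟩

/-- A subgroup normal in `L` whose elements act on `E` as a `p`-group is induced by `X`. -/
theorem le_good_of_pow_mem {N₁ L : Subgroup G} (hPL : nS S E ≤ L)
    (hLE : L ≤ normalizer (E : Set G)) (hN₁L : N₁ ≤ L) (hn : L ≤ normalizer (N₁ : Set G)) (k : ℕ)
    (hpow : ∀ g ∈ N₁, g ^ p ^ k ∈ centralizer (E : Set G)) : N₁ ≤ good X E := by
  have hidx : ¬ p ∣ (nS S E).relIndex L := fun hdvd =>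
    h.sylow (hdvd.trans (Dvd.intro _ (relIndex_mul_relIndex _ _ _ hPL hLE)))
  set T : Sylow p L := (h.isPGroup_nS.comap_subtype : IsPGroup p ((nS S E).subgroupOf L)).toSylow hidx
  set N' := N₁.subgroupOf L
  haveI : N'.Normal := ⟨fun x hx y => (mem_normalizer_iff.1 (hn y.2) _).1 hx⟩
  set C' := (centralizer (E : Set G)).subgroupOf L
  haveI : C'.Normal := ⟨fun x hx y => (mem_normalizer_iff.1
    (((normal_subgroupOf_iff_le_normalizer (centralizer_le_normalizer _)).1 inferInstance)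
      (hLE y.2)) _).1 hx⟩
  set U := C' ⊔ ((T : Subgroup L) ⊓ N') with hU
  have h1 : U.relIndex N' ∣ (T : Subgroup L).relIndex N' := by
    rw [← inf_relIndex_right (T : Subgroup L) N']
    exact relIndex_dvd_of_le_left N' le_sup_right
  have hq : IsPGroup p (↥N' ⧸ C'.subgroupOf N') := by
    intro q
    obtain ⟨⟨g, hg⟩, rfl⟩ := QuotientGroup.mk'_surjective (C'.subgroupOf N') q
    exact ⟨k, (QuotientGroup.eq_one_iff _).2 (hpow (g : G) hg)⟩
  obtain ⟨j, hj⟩ := hq.exists_card_eq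
  have h2 : U.relIndex N' ∣ p ^ j := hj ▸ relIndex_dvd_of_le_left N' le_sup_left
  have h3 : ((T : Subgroup L).relIndex N').Coprime (p ^ j) :=
    ((Fact.out : p.Prime).coprime_iff_not_dvd.mpr
      (Transfer.not_dvd_index_subgroupOf_of_normal T N')).symm.pow_right j
  have h4 : N' ≤ U := relIndex_eq_one.1 (Nat.eq_one_of_dvd_coprimes h3 h1 h2)
  intro g hg
  obtain ⟨c, hc, t, ht, e⟩ := mem_sup_of_normal_left.1 (h4 (show (⟨g, hN₁L hg⟩ : L) ∈ N' from hg))
  have e' : (c : G) * (t : G) = g := congrArg Subtype.val e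
  exact e' ▸ mul_mem (centralizer_le_good hc) (h.nS_le_good ht.1)

end Maximal

end Cfsg.Agent.ZJFailure
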