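import Cfsg.Agent.Lib.ZJFailure.Config
import Cfsg.Agent.Lib.PGroup.Thompson
import Cfsg.Agent.Lib.PGroup.Basic
import Cfsg.Agent.Lib.Replacement.Basic
import Cfsg.Prelude.Def_LocalEven

/-!
# A quadratic element at a maximal failure of `N(Z(J(S)))`

For a maximal failing `E` and a minimal `L ≤ N(E)`: with `Z₀` the core of `Z = Z(J(S))`,
`Z₂ / Z₀ = Z/Z₀ ∩ Z(S/Z₀)` and `B = ⟨Z₂^L⟩` some `x ∈ N_S(E) \ E` acts quadratically on
`B / Φ(B) Z₀` (`Setting.exists_quad`).
-/

set_option autoImplicit false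
set_option linter.style.haveILetI false

namespace Cfsg.Agent.ZJFailure

open Subgroup
open scoped commutatorElement Pointwise
open Cfsg.Agent.ZJControl (Ctl)

universe u

variable {G : Type u} [Group G] {p : ℕ}

/-- `Z(J(S))`. -/
abbrev zj (S : Sylow p G) : Subgroup G := Cfsg.centerThompsonAOf (S : Subgroup G)

/-- `N(Z(J(S)))`. -/
abbrev nz (S : Sylow p G) : Subgroup G := normalizer (zj S : Set G)

/-- The largest normal subgroup of `G` in `Z(J(S))`. -/
abbrev zCore (S : Sylow p G) : Subgroup G := (zj S).normalCore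

/-- The elements of `Z(J(S))` central in `S` modulo the core. -/
def zTwo (S : Sylow p G) : Subgroup G :=
  zj S ⊓ (centralizer ((S : Subgroup G).map (QuotientGroup.mk' (zCore S)) : Set (G ⧸ zCore S))).comap
    (QuotientGroup.mk' (zCore S))

/-- `⟨Z₂^L⟩`. -/
def bSub (S : Sylow p G) (L : Subgroup G) : Subgroup G :=
  closure {x | ∃ l ∈ L, ∃ z ∈ zTwo S, x = l * z * l⁻¹}

/-- `Z₀ B^p`. -/
def dSub (S : Sylow p G) (L : Subgroup G) : Subgroup G :=
  zCore S ⊔ closure {x | ∃ b ∈ bSub S L, x = b ^ p}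

/-- `x` acts quadratically on `B / D`. -/
def Quad (S : Sylow p G) (L : Subgroup G) (x : G) : Prop :=
  ∀ b ∈ bSub S L, ⁅x, ⁅x, b⁆⁆ ∈ dSub S L

theorem mk_comm_iff (N : Subgroup G) [N.Normal] (a b : G) :
    QuotientGroup.mk' N a * QuotientGroup.mk' N b = QuotientGroup.mk' N b * QuotientGroup.mk' N a ↔
      ⁅a, b⁆ ∈ N := by
  rw [← QuotientGroup.eq_one_iff]
  exact (commutatorElement_eq_one_iff_mul_comm.symm.trans
    (by rw [← map_commutatorElement, QuotientGroup.mk'_apply]))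

/-- What is known at a maximal failure. -/
structure Setting (S : Sylow p G) (E L : Subgroup G) : Prop where
  max : Maximal (nz S) S E
  nS_le : nS S E ≤ L
  le_norm : L ≤ normalizer (E : Set G)
  not_le : ¬ L ≤ good (nz S) E
  minimal : ∀ Y : Subgroup G, nS S E ≤ Y → Y < L → Y ≤ good (nz S) E
  proper : ∀ Y : Subgroup G, (S : Subgroup G) ≤ Y → Y ≠ ⊤ →
    ∀ A : Set G, A ⊆ (S : Set G) → ∀ g ∈ Y, (∀ a ∈ A, g * a * g⁻¹ ∈ S) → Ctl (nz S) A g

section Basic

variable (S : Sylow p G)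

theorem zj_le : zj S ≤ (S : Subgroup G) := inf_le_left.trans (PGroup.thompsonSubgroupAOf_le _)

theorem sylow_le_normalizer_zj : (S : Subgroup G) ≤ nz S := by
  refine le_normalizer.trans (le_trans (le_inf ?_ ?_) inf_normalizer_le_normalizer_inf)
  · exact PGroup.normalizer_le_normalizer_thompsonAOf _
  · exact (PGroup.normalizer_le_normalizer_thompsonAOf _).trans
      ((normal_subgroupOf_iff_le_normalizer (centralizer_le_normalizer _)).1 inferInstance)

theorem normalizer_sylow_le : normalizer ((S : Subgroup G) : Set G) ≤ nz S := by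
  refine le_trans (le_inf ?_ ?_) inf_normalizer_le_normalizer_inf
  · exact PGroup.normalizer_le_normalizer_thompsonAOf _
  · exact (PGroup.normalizer_le_normalizer_thompsonAOf _).trans
      ((normal_subgroupOf_iff_le_normalizer (centralizer_le_normalizer _)).1 inferInstance)

theorem zTwo_le_zj : zTwo S ≤ zj S := inf_le_left

theorem zTwo_le : zTwo S ≤ (S : Subgroup G) := (zTwo_le_zj S).trans (zj_le S)

theorem zCore_le_zTwo : zCore S ≤ zTwo S := fun z hz => by
  refine ⟨normalCore_le _ hz, ?_⟩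
  show QuotientGroup.mk' (zCore S) z ∈ centralizer _
  rw [show QuotientGroup.mk' (zCore S) z = 1 from (QuotientGroup.eq_one_iff z).2 hz]
  exact one_mem _

theorem comm_mem_of_zTwo {z s : G} (hz : z ∈ zTwo S) (hs : s ∈ (S : Subgroup G)) :
    ⁅z, s⁆ ∈ zCore S :=
  (mk_comm_iff _ _ _).1 (mem_centralizer_iff.1 hz.2 _ ⟨s, hs, rfl⟩).symm

theorem sylow_le_normalizer_zTwo : (S : Subgroup G) ≤ normalizer (zTwo S : Set G) := by
  have key : ∀ s ∈ (S : Subgroup G), ∀ z ∈ zTwo S, s * z * s⁻¹ ∈ zTwo S := by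
    intro s hs z hz
    have h1 := inv_mem (comm_mem_of_zTwo S hz hs)
    rw [show s * z * s⁻¹ = ⁅z, s⁆⁻¹ * z by
      simp [commutatorElement_def, mul_assoc]]
    exact mul_mem (zCore_le_zTwo S h1) hz
  intro s hs
  rw [mem_normalizer_iff]
  refine fun z => ⟨key s hs z, fun hz => ?_⟩
  simpa [mul_assoc] using key s⁻¹ (inv_mem hs) _ hz

theorem not_zTwo_le [Finite G] [Fact p.Prime] (h : ¬ zj S ≤ zCore S) : ¬ zTwo S ≤ zCore S := by
  intro hle
  set π := QuotientGroup.mk' (zCore S)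
  set SQ := (S : Subgroup G).map π
  set ZQ := (zj S).map π
  have hSQ : IsPGroup p SQ := S.2.map π
  have hZS : ZQ ≤ SQ := map_mono (zj_le S)
  have hne : ZQ.subgroupOf SQ ≠ ⊥ := by
    rw [Ne, subgroupOf_eq_bot, disjoint_iff, inf_eq_left.2 hZS]
    intro h0
    refine h fun z hz => ?_
    have : π z ∈ ZQ := mem_map_of_mem π hz
    rw [h0, mem_bot] at this
    exact (QuotientGroup.eq_one_iff z).1 this
  have hN : SQ ≤ normalizer (ZQ : Set (G ⧸ zCore S)) := by
    rintro _ ⟨s, hs, rfl⟩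
    exact le_normalizer_map π ⟨s, sylow_le_normalizer_zj S hs, rfl⟩
  haveI : (ZQ.subgroupOf SQ).Normal := (normal_subgroupOf_iff_le_normalizer hZS).2 hN
  refine PGroup.inf_center_ne_bot hSQ _ hne ((eq_bot_iff_forall _).2 ?_)
  rintro ⟨q, hq⟩ hq'
  obtain ⟨hqZ, hqC⟩ := mem_inf.1 hq'
  obtain ⟨z, hz, rfl⟩ : q ∈ ZQ := hqZ
  have hz2 : z ∈ zTwo S := ⟨hz, fun w hw =>
    congrArg Subtype.val (Subgroup.mem_center_iff.1 hqC ⟨w, hw⟩)⟩
  exact Subtype.ext ((QuotientGroup.eq_one_iff z).2 (hle hz2))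

theorem le_of_isMaxAb [Finite G] {A : Subgroup G} (hA : PGroup.IsMaxAb (S : Subgroup G) A) :
    zj S ≤ A := fun z hz => by
  rw [← PGroup.inf_centralizer_eq_of_isMaxAb hA]
  exact ⟨zj_le S hz, centralizer_le (PGroup.le_thompsonSubgroupAOf hA) hz.2⟩

theorem commute_zj [Finite G] {a b : G} (ha : a ∈ zj S) (hb : b ∈ zj S) : Commute a b :=
  (mem_centralizer_iff.1 hb.2 a ha.1 : a * b = b * a)

end Basic

namespace Setting

variable {S : Sylow p G} {E L : Subgroup G} (h : Setting S E L)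

theorem bSub_le_normalizer : L ≤ normalizer (bSub S L : Set G) := by
  have key : ∀ l ∈ L, ∀ b ∈ bSub S L, l * b * l⁻¹ ∈ bSub S L := by
    intro l hl b hb
    have hle : (bSub S L).map (MulAut.conj l).toMonoidHom ≤ bSub S L := by
      rw [bSub, MonoidHom.map_closure, closure_le]
      rintro _ ⟨_, ⟨m, hm, z, hz, rfl⟩, rfl⟩
      refine subset_closure ⟨l * m, mul_mem hl hm, z, hz, ?_⟩
      simp [mul_assoc]
    exact hle ⟨b, hb, rfl⟩
  intro l hl
  rw [mem_normalizer_iff]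
  refine fun b => ⟨key l hl b, fun hb => ?_⟩
  simpa [mul_assoc] using key l⁻¹ (inv_mem hl) _ hb

theorem zTwo_le_bSub : zTwo S ≤ bSub S L := fun z hz =>
  subset_closure ⟨1, one_mem _, z, hz, by simp⟩

theorem dSub_le_bSub : dSub S L ≤ bSub S L := by
  refine sup_le ((zCore_le_zTwo S).trans zTwo_le_bSub) ((closure_le _).2 ?_)
  rintro _ ⟨b, hb, rfl⟩
  exact pow_mem hb p

theorem dSub_le_normalizer : L ≤ normalizer (dSub S L : Set G) := by
  refine le_normalizer_sup ((normalizer_eq_top (H := zCore S)).symm ▸ le_top) ?_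
  have key : ∀ l ∈ L, ∀ d ∈ closure {x | ∃ b ∈ bSub S L, x = b ^ p},
      l * d * l⁻¹ ∈ closure {x | ∃ b ∈ bSub S L, x = b ^ p} := by
    intro l hl d hd
    have hle : (closure {x | ∃ b ∈ bSub S L, x = b ^ p}).map (MulAut.conj l).toMonoidHom ≤
        closure {x | ∃ b ∈ bSub S L, x = b ^ p} := by
      rw [MonoidHom.map_closure, closure_le]
      rintro _ ⟨_, ⟨b, hb, rfl⟩, rfl⟩
      exact subset_closure ⟨l * b * l⁻¹, (mem_normalizer_iff.1 (bSub_le_normalizer hl) b).1 hb,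
        by simp [conj_pow]⟩
    exact hle ⟨d, hd, rfl⟩
  intro l hl
  rw [mem_normalizer_iff]
  refine fun b => ⟨key l hl b, fun hb => ?_⟩
  simpa [mul_assoc] using key l⁻¹ (inv_mem hl) _ hb

/-- The stabilizer of `b` modulo `D`. -/
def stab (S : Sylow p G) (L : Subgroup G) (b : G) : Subgroup G where
  carrier := {l | l ∈ L ∧ ⁅l, b⁆ ∈ dSub S L}
  one_mem' := ⟨one_mem _, by rw [commutatorElement_one_left]; exact one_mem _⟩
  mul_mem' := by
    rintro l l' ⟨hl, hl'⟩ ⟨hm, hm'⟩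
    refine ⟨mul_mem hl hm, ?_⟩
    rw [show ⁅l * l', b⁆ = l * ⁅l', b⁆ * l⁻¹ * ⁅l, b⁆ by simp [commutatorElement_def, mul_assoc]]
    exact mul_mem ((mem_normalizer_iff.1 (dSub_le_normalizer hl) _).1 hm') hl'
  inv_mem' := by
    rintro l ⟨hl, hl'⟩
    refine ⟨inv_mem hl, ?_⟩
    rw [show ⁅l⁻¹, b⁆ = l⁻¹ * ⁅l, b⁆⁻¹ * l⁻¹⁻¹ by simp [commutatorElement_def, mul_assoc]]
    exact (mem_normalizer_iff.1 (dSub_le_normalizer (inv_mem hl)) _).1 (inv_mem hl')

/-- The kernel of the action on `B / D`. -/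
def kerB (S : Sylow p G) (L : Subgroup G) : Subgroup G := L ⊓ ⨅ b : bSub S L, stab S L b

theorem mem_kerB {l : G} : l ∈ kerB S L ↔ l ∈ L ∧ ∀ b ∈ bSub S L, ⁅l, b⁆ ∈ dSub S L := by
  simp only [kerB, mem_inf, mem_iInf, Subtype.forall]
  exact ⟨fun ⟨a, b⟩ => ⟨a, fun c hc => (b c hc).2⟩, fun ⟨a, b⟩ => ⟨a, fun c hc => ⟨a, b c hc⟩⟩⟩

theorem le_normalizer_kerB : L ≤ normalizer (kerB S L : Set G) := by
  have key : ∀ l ∈ L, ∀ k ∈ kerB S L, l * k * l⁻¹ ∈ kerB S L := by
    intro l hl k hk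
    rw [mem_kerB] at hk ⊢
    refine ⟨mul_mem (mul_mem hl hk.1) (inv_mem hl), fun b hb => ?_⟩
    rw [show ⁅l * k * l⁻¹, b⁆ = l * ⁅k, l⁻¹ * b * l⁻¹⁻¹⁆ * l⁻¹ by
      simp [commutatorElement_def, mul_assoc]]
    exact (mem_normalizer_iff.1 (dSub_le_normalizer hl) _).1
      (hk.2 _ ((mem_normalizer_iff.1 (bSub_le_normalizer (inv_mem hl)) _).1 hb))
  intro l hl
  rw [mem_normalizer_iff]
  refine fun b => ⟨key l hl b, fun hb => ?_⟩
  simpa [mul_assoc] using key l⁻¹ (inv_mem hl) _ hb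

include h

theorem comm_bSub (hE : zTwo S ≤ E) {b e : G} (hb : b ∈ bSub S L) (he : e ∈ E) : ⁅b, e⁆ ∈ zCore S := by
  have hle : bSub S L ≤
      (centralizer ((E.map (QuotientGroup.mk' (zCore S)) : Subgroup (G ⧸ zCore S)) : Set (G ⧸ zCore S))).comap
        (QuotientGroup.mk' (zCore S)) := by
    rw [bSub, closure_le]
    rintro _ ⟨l, hl, z, hz, rfl⟩ _ ⟨e, he, rfl⟩
    have hzE : z ∈ E := hE hz
    refine ((mk_comm_iff _ _ _).2 ?_).symm
    rw [show ⁅l * z * l⁻¹, e⁆ = l * ⁅z, l⁻¹ * e * l⁻¹⁻¹⁆ * l⁻¹ by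
      simp [commutatorElement_def, mul_assoc]]
    exact (inferInstance : (zCore S).Normal).conj_mem _ (comm_mem_of_zTwo S hz
      (h.max.failing.1 ((mem_normalizer_iff.1 (h.le_norm (inv_mem hl)) e).1 he))) l
  exact (mk_comm_iff _ _ _).1 (mem_centralizer_iff.1 (hle hb) _ ⟨e, he, rfl⟩).symm

variable [Finite G] [Fact p.Prime]

theorem not_zj_le_core : ¬ zj S ≤ zCore S := by
  intro hle
  have hn : (zj S).Normal := by
    rw [show zj S = zCore S from le_antisymm hle (normalCore_le _)]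
    infer_instance
  refine h.not_le fun g hg => ⟨h.le_norm hg, Ctl.of_mem ?_⟩
  show g ∈ normalizer (zj S : Set G)
  rw [normalizer_eq_top (H := zj S)]
  exact mem_top g

theorem zCore_le : zCore S ≤ E := by
  have hS : zCore S ≤ (S : Subgroup G) := (normalCore_le _).trans (zj_le S)
  refine ZJControl.le_of_inf_normalizer_le S.2 hS h.max.failing.1
    ((normalizer_eq_top (H := zCore S)).symm ▸ le_top) ?_
  have h1 : zCore S ⊓ L ≤ good (nz S) E := fun z hz =>
    ⟨h.le_norm hz.2, Ctl.of_mem (sylow_le_normalizer_zj S (hS hz.1))⟩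
  have h2 := h.max.inf_le_of_normal h1 h.nS_le h.le_norm inf_le_right
    ((le_inf ((normalizer_eq_top (H := zCore S)).symm ▸ le_top) le_normalizer).trans
      inf_normalizer_le_normalizer_inf) h.not_le
  exact fun z hz => h2 ⟨⟨hS hz.1, hz.2⟩, hz.1, h.nS_le ⟨hS hz.1, hz.2⟩⟩

theorem zTwo_le' : zTwo S ≤ E := by
  refine ZJControl.le_of_inf_normalizer_le S.2 (zTwo_le S) h.max.failing.1
    (sylow_le_normalizer_zTwo S) ?_
  -- elements centralizing `E / Z₀` and `Z₀`
  set C₁ := L ⊓ centralizer (zCore S : Set G) ⊓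
    (centralizer ((E.map (QuotientGroup.mk' (zCore S)) : Subgroup (G ⧸ zCore S)) : Set (G ⧸ zCore S))).comap
      (QuotientGroup.mk' (zCore S)) with hC₁
  have hmem : ∀ g, g ∈ C₁ ↔ g ∈ L ∧ g ∈ centralizer (zCore S : Set G) ∧ ∀ e ∈ E, ⁅g, e⁆ ∈ zCore S := by
    intro g
    rw [hC₁, mem_inf, mem_inf, mem_comap, mem_centralizer_iff (g := QuotientGroup.mk' (zCore S) g)]
    constructor
    · exact fun ⟨⟨a, b⟩, c⟩ => ⟨a, b, fun e he => (mk_comm_iff _ _ _).1 (c _ ⟨e, he, rfl⟩).symm⟩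
    · rintro ⟨a, b, c⟩
      refine ⟨⟨a, b⟩, ?_⟩
      rintro _ ⟨e, he, rfl⟩
      exact ((mk_comm_iff _ _ _).2 (c e he)).symm
  have hC₁n : L ≤ normalizer (C₁ : Set G) := by
    have key : ∀ l ∈ L, ∀ c ∈ C₁, l * c * l⁻¹ ∈ C₁ := by
      intro l hl c hc
      rw [hmem] at hc ⊢
      refine ⟨mul_mem (mul_mem hl hc.1) (inv_mem hl), ?_, fun e he => ?_⟩
      · rw [mem_centralizer_iff]
        intro z hz
        have := mem_centralizer_iff.1 hc.2.1 (l⁻¹ * z * l)
          (by simpa using (inferInstance : (zCore S).Normal).conj_mem z hz l⁻¹)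
        calc z * (l * c * l⁻¹) = l * (l⁻¹ * z * l * c) * l⁻¹ := by group
          _ = l * (c * (l⁻¹ * z * l)) * l⁻¹ := by rw [this]
          _ = _ := by group
      · rw [show ⁅l * c * l⁻¹, e⁆ = l * ⁅c, l⁻¹ * e * l⁻¹⁻¹⁆ * l⁻¹ by
          simp [commutatorElement_def, mul_assoc]]
        exact (inferInstance : (zCore S).Normal).conj_mem _
          (hc.2.2 _ ((mem_normalizer_iff.1 (h.le_norm (inv_mem hl)) e).1 he)) l
    intro l hl
    rw [mem_normalizer_iff]
    refine fun b => ⟨key l hl b, fun hb => ?_⟩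
    simpa [mul_assoc] using key l⁻¹ (inv_mem hl) _ hb
  obtain ⟨k, hcard⟩ := (S.2.to_le ((normalCore_le _).trans (zj_le S))).exists_card_eq (G := ↥(zCore S))
  have hgood : C₁ ≤ good (nz S) E := by
    refine h.max.le_good_of_pow_mem h.nS_le h.le_norm (inf_le_left.trans inf_le_left) hC₁n k
      fun g hg => ?_
    obtain ⟨hgL, hgZ, hgE⟩ := (hmem g).1 hg
    rw [mem_centralizer_iff]
    intro e he
    have hk : ∀ i : ℕ, g ^ i * e * (g ^ i)⁻¹ = ⁅g, e⁆ ^ i * e := by
      intro i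
      induction i with
      | zero => simp
      | succ i ih =>
        have hcom : g * ⁅g, e⁆ ^ i = ⁅g, e⁆ ^ i * g :=
          (mem_centralizer_iff.1 hgZ _ (pow_mem (hgE e he) i)).symm
        calc g ^ (i + 1) * e * (g ^ (i + 1))⁻¹ = g * (g ^ i * e * (g ^ i)⁻¹) * g⁻¹ := by
              rw [pow_succ']; group
          _ = g * ⁅g, e⁆ ^ i * e * g⁻¹ := by rw [ih]; group
          _ = ⁅g, e⁆ ^ i * (g * e * g⁻¹) := by rw [hcom]; group
          _ = ⁅g, e⁆ ^ i * (⁅g, e⁆ * e) := by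
              congr 1; simp [commutatorElement_def, mul_assoc]
          _ = _ := by rw [pow_succ, mul_assoc]
    have h1 := hk (p ^ k)
    have hone : ⁅g, e⁆ ^ p ^ k = 1 := by
      rw [← hcard]
      exact congrArg Subtype.val (pow_card_eq_one' (x := (⟨_, hgE e he⟩ : zCore S)))
    rw [hone, one_mul, mul_inv_eq_iff_eq_mul] at h1
    exact h1.symm
  have h2 := h.max.inf_le_of_normal hgood h.nS_le h.le_norm
    (inf_le_left.trans inf_le_left) hC₁n h.not_le
  intro z hz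
  refine h2 ⟨⟨zTwo_le S hz.1, hz.2⟩, (hmem z).2 ⟨h.nS_le ⟨zTwo_le S hz.1, hz.2⟩, ?_, fun e he => ?_⟩⟩
  · rw [mem_centralizer_iff]
    intro w hw
    exact commute_zj S (normalCore_le _ hw) (zTwo_le_zj S hz.1)
  · exact comm_mem_of_zTwo S hz.1 (h.max.failing.1 he)

theorem le_of_isMaxAb_map {A : Subgroup G} (hA : PGroup.IsMaxAb (S : Subgroup G) A) (hAE : A ≤ E)
    {g : G} (hg : g ∈ normalizer (E : Set G)) :
    PGroup.IsMaxAb (S : Subgroup G) (A.map (MulAut.conj g).toMonoidHom) := by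
  refine ⟨?_, PGroup.isMulCommutative_map hA.2.1 _, fun B hB hB' => ?_⟩
  · rintro _ ⟨a, ha, rfl⟩
    exact h.max.failing.1 ((mem_normalizer_iff.1 hg a).1 (hAE ha))
  · rw [card_map_of_injective (MulAut.conj g).injective]
    exact hA.2.2 B hB hB'

theorem exists_isMaxAb_not_le : ∃ A, PGroup.IsMaxAb (S : Subgroup G) A ∧ ¬ A ≤ E := by
  by_contra! hall
  refine h.not_le fun g hg => ⟨h.le_norm hg, Ctl.of_mem ?_⟩
  have hJ : ∀ g ∈ normalizer (E : Set G),
      (Cfsg.thompsonSubgroupAOf (S : Subgroup G)).map (MulAut.conj g).toMonoidHom ≤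
        Cfsg.thompsonSubgroupAOf (S : Subgroup G) := by
    intro g hg
    rw [map_le_iff_le_comap, PGroup.thompsonSubgroupAOf_eq, sSup_le_iff]
    intro A hA
    rw [← map_le_iff_le_comap]
    exact le_sSup (h.le_of_isMaxAb_map hA (hall A hA) hg)
  have hgJ : g ∈ normalizer (Cfsg.thompsonSubgroupAOf (S : Subgroup G) : Set G) := by
    rw [mem_normalizer_iff_map_conj_eq]
    exact eq_of_le_of_card_ge (hJ g (h.le_norm hg))
      (card_map_of_injective (MulAut.conj g).injective).ge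
  exact inf_normalizer_le_normalizer_inf
    ⟨hgJ, ((normal_subgroupOf_iff_le_normalizer (centralizer_le_normalizer _)).1 inferInstance) hgJ⟩

theorem not_thompson_inf_le : ¬ Cfsg.thompsonSubgroupAOf (S : Subgroup G) ⊓ nS S E ≤ E := by
  intro hle
  obtain ⟨A, hA, hAE⟩ := h.exists_isMaxAb_not_le
  have hJ : Cfsg.thompsonSubgroupAOf (S : Subgroup G) ≤ E :=
    ZJControl.le_of_inf_normalizer_le S.2 (PGroup.thompsonSubgroupAOf_le _) h.max.failing.1
      (le_normalizer.trans (PGroup.normalizer_le_normalizer_thompsonAOf _))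
      fun x hx => hle ⟨hx.1, PGroup.thompsonSubgroupAOf_le _ hx.1, hx.2⟩
  exact hAE ((PGroup.le_thompsonSubgroupAOf hA).trans hJ)

theorem bSub_le : bSub S L ≤ E := by
  rw [bSub, closure_le]
  rintro _ ⟨l, hl, z, hz, rfl⟩
  exact (mem_normalizer_iff.1 (h.le_norm hl) z).1 (h.zTwo_le' hz)

theorem le_kerB : E ≤ kerB S L := fun e he =>
  mem_kerB.2 ⟨h.nS_le (h.max.le_nS he), fun b hb => mem_sup_left (by
    rw [← inv_mem_iff, commutatorElement_inv]
    exact h.comm_bSub h.zTwo_le' hb he)⟩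

theorem exists_not_stab : ∃ z ∈ zTwo S, stab S L z ≠ L := by
  by_contra! hall
  -- then `B = Z₂ D` and hence `B = Z₂`
  have hstep : bSub S L ≤ zTwo S ⊔ dSub S L := by
    rw [bSub, closure_le]
    rintro _ ⟨l, hl, z, hz, rfl⟩
    have h1 : ⁅l, z⁆ ∈ dSub S L := ((hall z hz).ge hl).2
    rw [show l * z * l⁻¹ = ⁅l, z⁆ * z by simp [commutatorElement_def, mul_assoc]]
    exact mul_mem (mem_sup_right h1) (mem_sup_left hz)
  have hB : bSub S L ≤ zTwo S := by
    set Z' := (zTwo S).subgroupOf (bSub S L) with hZ'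
    haveI : Z'.Normal := by
      refine ⟨fun x hx y => ?_⟩
      show (y : G) * x * (y : G)⁻¹ ∈ zTwo S
      have hx' : (x : G) ∈ zTwo S := hx
      rw [show (y : G) * x * (y : G)⁻¹ = ⁅(x : G), (y : G)⁆⁻¹ * x by
        simp [commutatorElement_def, mul_assoc]]
      exact mul_mem (zCore_le_zTwo S (inv_mem (h.comm_bSub h.zTwo_le' x.2 (h.bSub_le y.2)))) hx'
    have hQ : IsPGroup p (↥(bSub S L) ⧸ Z') :=
      (S.2.to_le (h.bSub_le.trans h.max.failing.1)).to_quotient _
    set π := QuotientGroup.mk' Z'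
    have hcomm : ∀ a b : ↥(bSub S L) ⧸ Z', a * b = b * a := by
      intro a b
      obtain ⟨a, rfl⟩ := QuotientGroup.mk'_surjective Z' a
      obtain ⟨b, rfl⟩ := QuotientGroup.mk'_surjective Z' b
      rw [mk_comm_iff]
      exact zCore_le_zTwo S (h.comm_bSub h.zTwo_le' a.2 (h.bSub_le b.2))
    -- every element is a `p`-th power
    let f : (↥(bSub S L) ⧸ Z') →* (↥(bSub S L) ⧸ Z') :=
      MonoidHom.mk' (fun a => a ^ p) fun a b => Commute.mul_pow (hcomm a b) p
    have hf : Function.Surjective f := by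
      intro q
      obtain ⟨⟨b, hb⟩, rfl⟩ := QuotientGroup.mk'_surjective Z' q
      have h1 : ∀ w ∈ zTwo S ⊔ dSub S L, ∀ hw : w ∈ bSub S L,
          π ⟨w, hw⟩ ∈ f.range := by
        intro w hw hw'
        have hle : zTwo S ⊔ dSub S L ≤ (f.range.comap π).map (bSub S L).subtype := by
          have hz : zTwo S ≤ (f.range.comap π).map (bSub S L).subtype := fun z hz =>
            ⟨⟨z, zTwo_le_bSub hz⟩, by
              show π _ ∈ f.range
              rw [show π ⟨z, zTwo_le_bSub hz⟩ = 1 from (QuotientGroup.eq_one_iff _).2 hz]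
              exact one_mem _, rfl⟩
          refine sup_le hz (sup_le ((zCore_le_zTwo S).trans hz) ((closure_le _).2 ?_))
          rintro _ ⟨c, hc, rfl⟩
          exact ⟨⟨c, hc⟩ ^ p, ⟨π ⟨c, hc⟩, (map_pow π _ p).symm⟩, rfl⟩
        obtain ⟨u, hu, hu'⟩ := hle hw
        rwa [show (⟨w, hw'⟩ : ↥(bSub S L)) = u from Subtype.ext hu'.symm]
      exact h1 b (hstep hb) hb
    haveI : Finite (↥(bSub S L) ⧸ Z') := inferInstance
    have hinj := Finite.injective_iff_surjective.2 hf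
    intro b hb
    have h2 : π ⟨b, hb⟩ = 1 := by
      obtain ⟨k, hk⟩ := hQ (π ⟨b, hb⟩)
      induction k with
      | zero => simpa using hk
      | succ k ih =>
        refine ih (hinj ?_)
        show (π ⟨b, hb⟩ ^ p ^ k) ^ p = f 1
        rw [← pow_mul, ← pow_succ, hk, map_one]
    exact (QuotientGroup.eq_one_iff (⟨b, hb⟩ : ↥(bSub S L))).1 h2
  -- so `L` normalizes `Z₂`
  have hn : L ≤ normalizer (zTwo S : Set G) := by
    have e : bSub S L = zTwo S := le_antisymm hB zTwo_le_bSub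
    exact e ▸ bSub_le_normalizer
  by_cases htop : normalizer (zTwo S : Set G) = ⊤
  · haveI : (zTwo S).Normal := normalizer_eq_top_iff.1 htop
    exact not_zTwo_le S h.not_zj_le_core (normal_le_normalCore.2 (zTwo_le_zj S))
  · exact h.not_le fun g hg => ⟨h.le_norm hg, h.proper _ (sylow_le_normalizer_zTwo S) htop
      (E : Set G) h.max.failing.1 g (hn hg)
      fun a ha => h.max.failing.1 ((mem_normalizer_iff.1 (h.le_norm hg) a).1 ha)⟩

theorem stab_le {z : G} (hz : z ∈ zTwo S) (hne : stab S L z ≠ L) : stab S L z ≤ good (nz S) E := by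
  refine h.minimal _ (fun s hs => ⟨h.nS_le hs, mem_sup_left ?_⟩)
    (lt_of_le_of_ne (fun l hl => hl.1) hne)
  rw [← inv_mem_iff, commutatorElement_inv]
  exact comm_mem_of_zTwo S hz hs.1

theorem kerB_inf_eq : nS S E ⊓ kerB S L ≤ E := by
  obtain ⟨z, hz, hne⟩ := h.exists_not_stab
  refine h.max.inf_le_of_normal ?_ h.nS_le h.le_norm inf_le_left le_normalizer_kerB h.not_le
  exact fun l hl => h.stab_le hz hne ⟨hl.1, (mem_kerB.1 hl).2 z (zTwo_le_bSub hz)⟩

theorem not_bSub_le_zj : ¬ bSub S L ≤ zj S := by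
  intro hle
  refine h.not_thompson_inf_le fun x hx => h.kerB_inf_eq ⟨hx.2, mem_kerB.2 ⟨h.nS_le hx.2, fun b hb => ?_⟩⟩
  rw [commutatorElement_eq_one_iff_mul_comm.2 (mem_centralizer_iff.1 (hle hb).2 x hx.1)]
  exact one_mem _

/-- **A quadratic element outside `E`.** -/
theorem exists_quad (h2 : p ≠ 2) : ∃ x ∈ nS S E, x ∉ E ∧ Quad S L x := by
  have hBE := h.bSub_le
  have hBS : bSub S L ≤ (S : Subgroup G) := hBE.trans h.max.failing.1
  have hBn : ∀ x ∈ nS S E, x ∈ normalizer (bSub S L : Set G) := fun x hx =>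
    bSub_le_normalizer (h.nS_le hx)
  by_cases hA : ∃ A, PGroup.IsMaxAb (S : Subgroup G) A ∧ A ≤ nS S E ∧ ¬ A ≤ E
  · obtain ⟨A, ⟨hA, hAP, hAE⟩, hmax⟩ := (Set.toFinite {A : Subgroup G |
      PGroup.IsMaxAb (S : Subgroup G) A ∧ A ≤ nS S E ∧ ¬ A ≤ E}).exists_maximalFor
      (fun A : Subgroup G => Nat.card ↥(A ⊓ bSub S L)) _ hA
    have hnorm : bSub S L ≤ normalizer (A : Set G) := by
      by_contra hnot
      have hZB : ∀ b ∈ bSub S L, ∀ c ∈ bSub S L, ⁅b, c⁆ ∈ zCore S := fun b hb c hc =>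
        h.comm_bSub h.zTwo_le' hb (hBE hc)
      have hB1 : ⁅bSub S L, bSub S L⁆ ≤ zCore S := commutator_le.2 hZB
      have hB2 : ⁅⁅bSub S L, bSub S L⁆, bSub S L⁆ = ⊥ := by
        refine le_bot_iff.1 ((commutator_mono hB1 le_rfl).trans (le_bot_iff.2 ?_))
        rw [commutator_eq_bot_iff_le_centralizer]
        intro w hw
        rw [mem_centralizer_iff]
        intro b hb
        refine (Commute.eq ?_).symm
        induction hb using Subgroup.closure_induction with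
        | mem b hb =>
          obtain ⟨l, -, z, hz, rfl⟩ := hb
          have hw' : l⁻¹ * w * l ∈ zCore S := by
            simpa using (inferInstance : (zCore S).Normal).conj_mem w hw l⁻¹
          have hc := commute_zj S (normalCore_le _ hw') (zTwo_le_zj S hz)
          have := hc.map (MulAut.conj l).toMonoidHom
          simpa [mul_assoc] using this
        | one => exact Commute.one_right _
        | mul a b _ _ ha hb => exact ha.mul_right hb
        | inv a _ ha => exact ha.inv_right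
      obtain ⟨As, hAs, hcard, hlt, hAsN, -, hAsle, -, -⟩ := Replacement.exists_replacement h2
        (S.2.to_le (sup_le hA.1 hBS)) hA.2.1 hB2
        (hB1.trans ((normalCore_le _).trans (le_of_isMaxAb S hA))) (fun a ha => hBn a (hAP ha)) hnot
      have hAsS : As ≤ (S : Subgroup G) := hAsle.trans (sup_le hA.1 hBS)
      have hAsmax : PGroup.IsMaxAb (S : Subgroup G) As :=
        ⟨hAsS, hAs, fun B hB hB' => hcard ▸ hA.2.2 B hB hB'⟩
      have hAsE : As ≤ E := by
        by_contra hcon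
        have := hmax (j := As) ⟨hAsmax, hAsle.trans (sup_le hAP (hBE.trans h.max.le_nS)), hcon⟩
          (Nat.le_of_dvd Nat.card_pos (card_dvd_of_le hlt.le))
        exact hlt.ne (eq_of_le_of_card_ge hlt.le this)
      refine hnot (le_trans ?_ hAsN)
      rw [bSub, closure_le]
      rintro _ ⟨l, hl, z, hz, rfl⟩
      rw [SetLike.mem_coe, ← PGroup.inf_centralizer_eq_of_isMaxAb hAsmax, mem_inf, mem_centralizer_iff]
      refine ⟨h.max.failing.1 ((mem_normalizer_iff.1 (h.le_norm hl) z).1 (h.zTwo_le' hz)), fun a ha => ?_⟩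
      have hm := h.le_of_isMaxAb_map hAsmax hAsE (h.le_norm (inv_mem hl))
      have hz' := le_of_isMaxAb S hm (zTwo_le_zj S hz)
      obtain ⟨a', ha', ha''⟩ := hz'
      have hc : Commute a' a := PGroup.mul_comm_of_isMulCommutative hAs ha' ha
      rw [show l * z * l⁻¹ = a' by rw [← ha'']; simp [mul_assoc]]
      exact hc.symm
    obtain ⟨x, hx, hxE⟩ := SetLike.not_le_iff_exists.1 hAE
    refine ⟨x, hAP hx, hxE, fun b hb => ?_⟩
    have h1 : ⁅x, b⁆ ∈ A := by
      rw [show ⁅x, b⁆ = x * (b * x⁻¹ * b⁻¹) by simp [commutatorElement_def, mul_assoc]]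
      exact mul_mem hx ((mem_normalizer_iff.1 (hnorm hb) _).1 (inv_mem hx))
    rw [commutatorElement_eq_one_iff_mul_comm.2 (PGroup.mul_comm_of_isMulCommutative hA.2.1 hx h1)]
    exact one_mem _
  · -- `N_S(E) < S`
    set U := (S : Subgroup G) ⊓ normalizer (nS S E : Set G) with hUdef
    have hUlt : Nat.card (nS S E) < Nat.card U := by
      have hlt : nS S E < U := by
        refine Transfer.lt_inf_normalizer_of_lt S.2 (lt_of_le_of_ne inf_le_left fun e => ?_)
        obtain ⟨A, hA', hAE⟩ := h.exists_isMaxAb_not_le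
        exact hA ⟨A, hA', hA'.1.trans e.ge, hAE⟩
      by_contra hle
      exact hlt.ne (eq_of_le_of_card_ge hlt.le (not_lt.1 hle))
    obtain ⟨W, hW0, hWs⟩ : ∃ W : ℕ → Set G, W 0 = {1} ∧
        ∀ n g, g ∈ W (n + 1) ↔ ∃ s, (s ∈ L ∨ s ∈ U) ∧ ∃ w ∈ W n, g = s * w :=
      ⟨fun n => Nat.rec ({1} : Set G) (fun _ T => {g | ∃ s, (s ∈ L ∨ s ∈ U) ∧ ∃ w ∈ T, g = s * w}) n,
        rfl, fun _ _ => Iff.rfl⟩
    have h0 : ∀ w, w ∈ W 0 ↔ w = 1 := fun w => by rw [hW0]; exact Set.mem_singleton_iff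
    have hWr : ∀ n, ∀ w ∈ W n, ∀ s, (s ∈ L ∨ s ∈ U) → w * s ∈ W (n + 1) := by
      intro n
      induction n with
      | zero =>
        intro w hw s hs
        obtain rfl := (h0 w).1 hw
        exact (hWs 0 _).2 ⟨s, hs, 1, (h0 1).2 rfl, by simp⟩
      | succ n ih =>
        intro w hw s hs
        obtain ⟨s', hs', w', hw', rfl⟩ := (hWs n w).1 hw
        exact (hWs _ _).2 ⟨s', hs', w' * s, ih w' hw' s hs, mul_assoc _ _ _⟩
    have hWi : ∀ n, ∀ w ∈ W n, w⁻¹ ∈ W n := by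
      intro n
      induction n with
      | zero => intro w hw; obtain rfl := (h0 w).1 hw; exact (h0 _).2 inv_one
      | succ n ih =>
        intro w hw
        obtain ⟨s, hs, w', hw', rfl⟩ := (hWs n w).1 hw
        rw [mul_inv_rev]
        exact hWr n _ (ih w' hw') _ (hs.imp inv_mem inv_mem)
    have hex : ∃ n, ∃ w ∈ W n, ∃ b ∈ bSub S L, w * b * w⁻¹ ∉ E := by
      by_contra! hall
      set Bh : Subgroup G := closure {x | ∃ n, ∃ w ∈ W n, ∃ b ∈ bSub S L, x = w * b * w⁻¹} with hBh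
      have hBhE : Bh ≤ E := by
        rw [hBh, closure_le]
        rintro _ ⟨n, w, hw, b, hb, rfl⟩
        exact hall n w hw b hb
      have hBhn : ∀ s, (s ∈ L ∨ s ∈ U) → s ∈ normalizer (Bh : Set G) := by
        have key : ∀ s, (s ∈ L ∨ s ∈ U) → ∀ c ∈ Bh, s * c * s⁻¹ ∈ Bh := by
          intro s hs c hc
          have hle : Bh.map (MulAut.conj s).toMonoidHom ≤ Bh := by
            rw [hBh, MonoidHom.map_closure, closure_le]
            rintro _ ⟨_, ⟨n, w, hw, b, hb, rfl⟩, rfl⟩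
            exact subset_closure ⟨n + 1, s * w, (hWs n _).2 ⟨s, hs, w, hw, rfl⟩, b, hb,
              by simp [mul_assoc]⟩
          exact hle ⟨c, hc, rfl⟩
        intro s hs
        rw [mem_normalizer_iff]
        refine fun c => ⟨key s hs c, fun hc => ?_⟩
        simpa [mul_assoc] using key s⁻¹ (hs.imp inv_mem inv_mem) _ hc
      have hBhS : Bh ≤ (S : Subgroup G) := hBhE.trans h.max.failing.1
      -- some conjugate of `Z₂` is not in `Z(J(S))`
      obtain ⟨l, hl, z, hz, hlz⟩ : ∃ l ∈ L, ∃ z ∈ zTwo S, l * z * l⁻¹ ∉ zj S := by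
        by_contra! hall'
        refine h.not_bSub_le_zj ?_
        rw [bSub, closure_le]
        rintro _ ⟨l, hl, z, hz, rfl⟩
        exact hall' l hl z hz
      have hfail : Failing (nz S) (S : Subgroup G) Bh := by
        refine ⟨hBhS, l, hBhn l (Or.inl hl), fun hc => hlz ?_⟩
        obtain ⟨x, hx, he⟩ := hc
        rw [he z (subset_closure ⟨0, 1, (h0 1).2 rfl, z, zTwo_le_bSub hz, by simp⟩)]
        exact (mem_normalizer_iff.1 hx z).1 (zTwo_le_zj S hz)
      have hU : Nat.card U ≤ Nat.card (nS S Bh) :=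
        Nat.le_of_dvd Nat.card_pos (card_dvd_of_le (le_inf inf_le_left fun u hu => hBhn u (Or.inr hu)))
      simp only [nS] at hU hUlt
      rcases h.max.max Bh hfail with h3 | ⟨h3, -⟩ <;> omega
    classical
    set m := Nat.find hex with hm
    have hlow : ∀ n < m, ∀ w ∈ W n, ∀ b ∈ bSub S L, w * b * w⁻¹ ∈ E := by
      intro n hn w hw b hb
      by_contra hcon
      exact Nat.find_min hex hn ⟨w, hw, b, hb, hcon⟩
    obtain ⟨w, hw, b₀, hb₀, hout⟩ := Nat.find_spec hex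
    rw [← hm] at hw
    -- conjugates by words of length `m` lie in `N_S(E)`
    have hin : ∀ w ∈ W m, ∀ b ∈ bSub S L, w * b * w⁻¹ ∈ nS S E := by
      intro w hw b hb
      obtain _ | k := m
      · obtain rfl := (h0 w).1 hw
        simpa using h.max.le_nS (hBE hb)
      obtain ⟨s, hs, w', hw', rfl⟩ := (hWs k w).1 hw
      have h1 := hlow k (Nat.lt_succ_self k) w' hw' b hb
      rw [show s * w' * b * (s * w')⁻¹ = s * (w' * b * w'⁻¹) * s⁻¹ by group]
      rcases hs with hs | hs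
      · exact h.max.le_nS ((mem_normalizer_iff.1 (h.le_norm hs) _).1 h1)
      · exact (mem_normalizer_iff.1 hs.2 _).1 (h.max.le_nS h1)
    refine ⟨w * b₀ * w⁻¹, hin w hw b₀ hb₀, hout, fun b hb => mem_sup_left ?_⟩
    set x := w * b₀ * w⁻¹ with hx
    have hxB : ⁅x, b⁆ ∈ bSub S L := by
      rw [show ⁅x, b⁆ = x * b * x⁻¹ * b⁻¹ from commutatorElement_def x b]
      exact mul_mem ((mem_normalizer_iff.1 (hBn x (hin w hw b₀ hb₀)) b).1 hb) (inv_mem hb)
    have hbw : w⁻¹ * b * w ∈ normalizer (bSub S L : Set G) := by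
      have := hin w⁻¹ (hWi _ _ hw) b hb
      rw [inv_inv] at this
      exact hBn _ this
    -- `[x, b]` lies in the conjugate of `B` containing `x`
    have hc : w⁻¹ * ⁅x, b⁆ * w ∈ bSub S L := by
      rw [show w⁻¹ * ⁅x, b⁆ * w = b₀ * ((w⁻¹ * b * w) * b₀⁻¹ * (w⁻¹ * b * w)⁻¹) by
        rw [hx]; simp [commutatorElement_def, mul_assoc]]
      exact mul_mem hb₀ ((mem_normalizer_iff.1 hbw _).1 (inv_mem hb₀))
    rw [show ⁅x, ⁅x, b⁆⁆ = w * ⁅b₀, w⁻¹ * ⁅x, b⁆ * w⁆ * w⁻¹ by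
      rw [hx]; simp [commutatorElement_def, mul_assoc]]
    exact (inferInstance : (zCore S).Normal).conj_mem _ (h.comm_bSub h.zTwo_le' hb₀ (hBE hc)) w

end Setting

end Cfsg.Agent.ZJFailure
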