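import Cfsg.Agent.Lib.ZJFailure.Pair
import Cfsg.Agent.Lib.Qd.Borel
import Cfsg.Agent.Lib.Replacement.Constrained
import Cfsg.Agent.Lib.ConjFun.Basic
import Cfsg.Agent.Lib.PCore.Basic

/-!
# Failure of control of strong fusion by `Z(J(S))`, `p` odd

`structure_of_failure`: if `N(Z(J(S)))` does not control strong fusion in `S`, then `F(p)` is involved in
it and some element of order `p` of `Z(J(S))` has the full automorphism group induced by it.
-/

set_option autoImplicit false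
set_option linter.style.haveILetI false

namespace Cfsg.Agent.ZJFailure

open Subgroup
open scoped commutatorElement Pointwise MatrixGroups
open Cfsg.Agent.ZJControl (Ctl)

universe u

variable {G : Type u} [Group G] {p : ℕ}

/-- An element of `H` induces all powers prime to `p` on an element of order `p` of `Z`. -/
def HasFullAut (p : ℕ) (Z H : Subgroup G) : Prop :=
  ∃ c ∈ Z, orderOf c = p ∧ ∃ h ∈ H, ∃ w : ℕ, h * c * h⁻¹ = c ^ w ∧ orderOf (w : ZMod p) = p - 1

/-- The conclusion. -/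
def Concl [Fact p.Prime] (S : Sylow p G) : Prop :=
  Cfsg.Involves ↥(Cfsg.fOver (ZMod p)) ↥(nz S) ∧ HasFullAut p (zj S) (nz S)

theorem orderOf_gen_units [Fact p.Prime] :
    ∃ a : (ZMod p)ˣ, orderOf a = p - 1 := by
  obtain ⟨a, ha⟩ := IsCyclic.exists_ofOrder_eq_natCard (α := (ZMod p)ˣ)
  refine ⟨a, ha.trans ?_⟩
  rw [Nat.card_eq_fintype_card, ZMod.card_units]

variable [Finite G] [Fact p.Prime] {S : Sylow p G} {E L : Subgroup G}

theorem Setting.hasFullAut (h : Setting S E L) (h2 : p ≠ 2) : HasFullAut p (zj S) (nz S) := by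
  have hp := (Fact.out : p.Prime)
  obtain ⟨X, A, hXA, π, g, hXM, hAB, hπ, -, ⟨z, hzZ, hgz⟩, heq⟩ := h.exists_plane h2
  obtain ⟨a, ha⟩ := orderOf_gen_units (p := p)
  obtain ⟨x, hx⟩ : PSL2.dd a ∈ π.range := by
    rw [hπ]; exact PSL2.mem_borel.2 (PSL2.dd10 a)
  have hAE : A ≤ E := hAB.trans h.bSub_le
  obtain ⟨hxE, h₀, hh₀, hact⟩ := hXM x.2
  have hact' : ∀ k : ℕ, ∀ e ∈ E, (x : G) ^ k * e * ((x : G) ^ k)⁻¹ = h₀ ^ k * e * (h₀ ^ k)⁻¹ := by
    intro k
    induction k with
    | zero => simp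
    | succ k ih =>
      intro e he
      have h1 : h₀ * e * h₀⁻¹ ∈ E := hact e he ▸ (mem_normalizer_iff.1 hxE e).1 he
      calc (x : G) ^ (k + 1) * e * ((x : G) ^ (k + 1))⁻¹
          = (x : G) ^ k * ((x : G) * e * (x : G)⁻¹) * ((x : G) ^ k)⁻¹ := by rw [pow_succ]; group
        _ = (x : G) ^ k * (h₀ * e * h₀⁻¹) * ((x : G) ^ k)⁻¹ := by rw [hact e he]
        _ = h₀ ^ k * (h₀ * e * h₀⁻¹) * (h₀ ^ k)⁻¹ := ih _ h1
        _ = _ := by rw [pow_succ]; group
  obtain ⟨m, n, hn, hm⟩ := Nat.exists_eq_pow_mul_and_not_dvd (orderOf_pos h₀).ne' p hp.ne_one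
  set h' := h₀ ^ p ^ m with hh'
  have hh'H : h' ∈ nz S := pow_mem hh₀ _
  have hh'n : h' ^ n = 1 := by rw [hh', ← pow_mul, ← hm, pow_orderOf_eq_one]
  set x' := x ^ p ^ m with hx'
  have hπx : π x' = PSL2.dd a := by
    rw [hx', map_pow, hx, PSL2.dd_pow]
    congr 1
    ext
    rw [Units.val_pow_eq_pow_val, ZMod.pow_card_pow]
  have hact'' : ∀ e ∈ E, (x' : G) * e * (x' : G)⁻¹ = h' * e * h'⁻¹ := fun e he => by
    rw [hx', SubgroupClass.coe_pow]; exact hact' _ e he
  -- the part of `A` in `Z`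
  set A₁ := zj S ⊓ A with hA₁
  have hstab : ∀ v ∈ A₁, h' * v * h'⁻¹ ∈ A₁ := fun v hv =>
    ⟨(mem_normalizer_iff.1 hh'H v).1 hv.1, by
      rw [← hact'' v (hAE hv.2)]
      exact (mem_normalizer_iff.1 (hXA x'.2) v).1 hv.2⟩
  let T : ↥A₁ →* ↥A₁ := MonoidHom.mk' (fun v => ⟨h' * v * h'⁻¹, hstab v v.2⟩) fun v w =>
    Subtype.ext (by simp [mul_assoc])
  let f : ↥A₁ →* Multiplicative (Fin 2 → ZMod p) := g.comp (inclusion inf_le_right)
  have hfT : ∀ v, (f (T v)).toAdd =
      (PSL2.dd a : Matrix (Fin 2) (Fin 2) (ZMod p)).mulVec (f v).toAdd := by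
    intro v
    rw [← hπx]
    refine Eq.trans ?_ (congrArg Multiplicative.toAdd (heq x' ⟨v, v.2.2⟩))
    show (g _).toAdd = (g _).toAdd
    congr 2
    exact Subtype.ext (hact'' v (hAE v.2.2)).symm
  let Tk : ℕ → ↥A₁ := fun k => T^[k] ⟨z, hzZ, z.2⟩
  have hTk : ∀ k, (Tk k : G) = h' ^ k * z * (h' ^ k)⁻¹ := by
    intro k
    induction k with
    | zero => simp [Tk]
    | succ k ih =>
      show ((T^[k + 1] _ : ↥A₁) : G) = _
      rw [Function.iterate_succ_apply', pow_succ']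
      show h' * (Tk k : G) * h'⁻¹ = _
      rw [ih]; group
  have hfTk : ∀ k, (f (Tk k)).toAdd = ![(a : ZMod p) ^ k, 0] := by
    intro k
    induction k with
    | zero => simp only [pow_zero]; exact hgz
    | succ k ih =>
      show (f (T^[k + 1] _)).toAdd = _
      rw [Function.iterate_succ_apply']
      refine (hfT _).trans ?_
      rw [show (f (T^[k] ⟨z, hzZ, z.2⟩)).toAdd = ![(a : ZMod p) ^ k, 0] from ih]
      ext i
      simp only [Matrix.mulVec, dotProduct, Fin.sum_univ_two]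
      fin_cases i
      · show PSL2.dd a 0 0 * (a : ZMod p) ^ k + PSL2.dd a 0 1 * 0 = (a : ZMod p) ^ (k + 1)
        rw [PSL2.dd00, mul_zero, add_zero, pow_succ']
      · show PSL2.dd a 1 0 * (a : ZMod p) ^ k + PSL2.dd a 1 1 * 0 = 0
        rw [PSL2.dd10, zero_mul, mul_zero, add_zero]
  have hTn : Tk n = Tk 0 := Subtype.ext (by rw [hTk, hTk, hh'n, pow_zero])
  have han : (a : ZMod p) ^ n = 1 := by
    have := congrArg (fun v => (f v).toAdd 0) hTn
    simpa [hfTk] using this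
  have hdvd : p - 1 ∣ n := by
    rw [← ha]
    exact orderOf_dvd_of_pow_eq_one (Units.ext (by simpa using han))
  obtain ⟨e, he⟩ := (S.2.to_le ((inf_le_left : A₁ ≤ zj S).trans (zj_le S))).exists_card_eq
  let _ : CommGroup ↥A₁ :=
    { (inferInstance : Group ↥A₁) with
      mul_comm := fun u v => Subtype.ext (commute_zj S u.2.1 v.2.1) }
  set ω : ℕ := (a : ZMod p).val ^ p ^ e with hω
  have hωp : (ω : ZMod p) = a := by
    rw [hω, Nat.cast_pow, ZMod.natCast_zmod_val, ZMod.pow_card_pow]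
  have hωn : ∀ v : ↥A₁, v ^ ω ^ n = v := by
    intro v
    have hcop : Nat.Coprime (a : ZMod p).val (p ^ (e + 1)) :=
      Nat.Coprime.pow_right _ (ZMod.val_coe_unit_coprime a)
    have h1 := Nat.ModEq.pow_totient hcop
    rw [Nat.totient_prime_pow_succ hp] at h1
    obtain ⟨k, hk⟩ := hdvd
    have h2' : ω ^ n ≡ 1 [MOD p ^ (e + 1)] := by
      rw [hω, hk, ← pow_mul, ← mul_assoc, pow_mul]
      simpa using h1.pow k
    have h3 : ω ^ n ≡ 1 [MOD Nat.card ↥A₁] := by
      rw [he]; exact h2'.of_dvd (pow_dvd_pow p (Nat.le_succ e))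
    conv_rhs => rw [← pow_one v]
    rw [pow_eq_pow_iff_modEq]
    exact h3.of_dvd (orderOf_dvd_natCard v)
  set y : ↥A₁ := ∏ i ∈ Finset.range n, Tk i ^ ω ^ (n - i) with hy
  have hyω : T y = y ^ ω := by
    have h1 : T y = ∏ i ∈ Finset.range n, Tk (i + 1) ^ ω ^ (n + 1 - (i + 1)) := by
      rw [hy, map_prod]
      refine Finset.prod_congr rfl fun i _ => ?_
      rw [map_pow, show T (Tk i) = Tk (i + 1) from (Function.iterate_succ_apply' T i _).symm]
      congr 2; omega
    have h2' : y ^ ω = ∏ i ∈ Finset.range n, Tk i ^ ω ^ (n + 1 - i) := by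
      rw [hy, ← Finset.prod_pow]
      refine Finset.prod_congr rfl fun i hi => ?_
      rw [← pow_mul, ← pow_succ]
      congr 2
      have := Finset.mem_range.1 hi
      omega
    have hend : Tk n ^ ω ^ (n + 1 - n) = Tk 0 ^ ω ^ (n + 1 - 0) := by
      rw [hTn, show n + 1 - n = 1 by omega, Nat.sub_zero, pow_one]
      conv_rhs => rw [pow_succ, pow_mul, hωn]
    have h3 := Finset.prod_range_succ (fun i => Tk i ^ ω ^ (n + 1 - i)) n
    have h4 := Finset.prod_range_succ' (fun i => Tk i ^ ω ^ (n + 1 - i)) n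
    rw [h1, h2']
    rw [h3, hend] at h4
    exact mul_right_cancel h4.symm
  have hfy : (f y).toAdd 0 = (n : ZMod p) := by
    have h1 : ∀ i ∈ Finset.range n, (f (Tk i ^ ω ^ (n - i))).toAdd 0 = 1 := by
      intro i hi
      rw [map_pow, toAdd_pow, Pi.smul_apply, hfTk, nsmul_eq_mul, Nat.cast_pow, hωp]
      simp only [Matrix.cons_val_zero]
      rw [← pow_add, Nat.sub_add_cancel (Finset.mem_range.1 hi).le, han]
    rw [hy, map_prod, toAdd_prod, Finset.sum_apply, Finset.sum_congr rfl h1]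
    simp
  have hy1 : y ≠ 1 := by
    intro h1
    rw [h1, map_one] at hfy
    exact hn ((ZMod.natCast_eq_zero_iff n p).1 hfy.symm)
  obtain ⟨j, hj, hjy⟩ := (Nat.dvd_prime_pow hp).1 (he ▸ orderOf_dvd_natCard y)
  obtain ⟨i, rfl⟩ : ∃ i, j = i + 1 := ⟨j - 1, by
    rcases Nat.eq_zero_or_pos j with rfl | hj0
    · exact absurd (orderOf_eq_one_iff.1 (by simpa using hjy)) hy1
    · omega⟩
  set c := y ^ p ^ i with hc
  have hco : orderOf c = p := by
    rw [hc, orderOf_pow' y (pow_ne_zero _ hp.ne_zero), hjy,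
      Nat.gcd_eq_right (pow_dvd_pow p (Nat.le_succ i)), pow_succ', Nat.mul_div_cancel _ (pow_pos hp.pos _)]
  refine ⟨c, c.2.1, (Subgroup.orderOf_coe c).trans hco, h', hh'H, ω, ?_, by rw [hωp, orderOf_units, ha]⟩
  have h1 : T c = c ^ ω := by rw [hc, map_pow, hyω, ← pow_mul, ← pow_mul, mul_comm]
  have h2' := congrArg Subtype.val h1
  rw [SubgroupClass.coe_pow] at h2'
  exact h2'

theorem Setting.involves_fOver (h : Setting S E L) (h2 : p ≠ 2) :
    Cfsg.Involves ↥(Cfsg.fOver (ZMod p)) ↥(nz S) := by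
  obtain ⟨X, A, hXA, π, g, hXM, hAB, hπ, hg, -, heq⟩ := h.exists_plane h2
  have hAE : A ≤ E := hAB.trans h.bSub_le
  obtain ⟨K, ψ, hK, hψ⟩ := Qd.exists_surjective_fOver h2
    (S.2.to_le (hAE.trans h.max.failing.1)) hXA π hπ g hg heq
  set N := normalizer (E : Set G) with hN
  set D := (Cfsg.pPrimeCore p ↥N).map N.subtype with hD
  have hDN : N ≤ normalizer (D : Set G) := fun n hn =>
    le_normalizer_map N.subtype ⟨⟨n, hn⟩, by
      rw [normalizer_eq_top (H := Cfsg.pPrimeCore p ↥N)]; exact mem_top _, rfl⟩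
  have hKM : K ≤ good (nz S) E := hK.trans (sup_le (hAE.trans h.max.le_good) hXM)
  refine Qd.involves_fOver_of_le_sup (H₀ := N ⊓ nz S) ψ hψ ?_ ?_ (inf_le_left.trans hDN) ?_ inf_le_right
  · rw [hD, card_map_of_injective N.subtype_injective]
    exact PCore.coprime_card_pPrimeCore
  · exact fun k hk => hDN (hKM hk).1
  · intro k hk
    obtain ⟨hkE, y, hy, hye⟩ := hKM hk
    have hyE : y ∈ N := by
      rw [hN, mem_normalizer_iff_map_conj_eq]
      refine Eq.trans ?_ (mem_normalizer_iff_map_conj_eq.1 hkE)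
      ext w
      constructor <;> rintro ⟨e, he, rfl⟩
      · exact ⟨e, he, hye e he⟩
      · exact ⟨e, he, (hye e he).symm⟩
    have hcc : k * y⁻¹ ∈ centralizer (E : Set G) := by
      rw [mem_centralizer_iff]
      intro e he
      have h1 : y⁻¹ * e * y ∈ E := by simpa using (mem_normalizer_iff.1 (inv_mem hyE) e).1 he
      have h3 := hye _ h1
      calc e * (k * y⁻¹) = y * (y⁻¹ * e * y) * y⁻¹ * (k * y⁻¹) := by group
        _ = k * (y⁻¹ * e * y) * k⁻¹ * (k * y⁻¹) := by rw [h3]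
        _ = _ := by group
    have h4 : k * y⁻¹ ∈ D ⊔ N ⊓ nz S := by
      have h5 := h.max.centralizer_le_core_sup hcc
      exact (sup_le_sup le_rfl (le_inf le_normalizer
        (h.max.failing.1.trans (sylow_le_normalizer_zj S)))) h5
    simpa using mul_mem h4 (mem_sup_right ⟨hyE, hy⟩ : y ∈ D ⊔ N ⊓ nz S)

omit [Finite G] in
theorem map_zj (Y : Subgroup G) (T : Sylow p ↥Y) (hT : (T : Subgroup Y).map Y.subtype = (S : Subgroup G)) :
    (zj T).map Y.subtype = zj S := by
  show _ = Cfsg.centerThompsonAOf (S : Subgroup G)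
  rw [← hT, Replacement.centerThompsonAOf_map_injOn Y.subtype fun x _ hx => Subtype.ext hx]

/-- **Failure of control of strong fusion by `Z(J(S))`.** -/
theorem structure_of_failure (h2 : p ≠ 2) (S : Sylow p G) {A : Set G} {g : G} (hA : A ⊆ (S : Set G))
    (hAg : ∀ a ∈ A, g * a * g⁻¹ ∈ S) (hn : ¬ Ctl (nz S) A g) : Concl S := by
  suffices h : ∀ n : ℕ, ∀ (G : Type u) [Group G] [Finite G], Nat.card G = n → ∀ (S : Sylow p G)
      (A : Set G) (g : G), A ⊆ (S : Set G) → (∀ a ∈ A, g * a * g⁻¹ ∈ S) → ¬ Ctl (nz S) A g →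
      Concl S from h _ G rfl S A g hA hAg hn
  intro n
  induction n using Nat.strong_induction_on with
  | _ n ih =>
  intro G _ _ hcard S A g hA hAg hn
  by_cases hproper : ∀ Y : Subgroup G, (S : Subgroup G) ≤ Y → Y ≠ ⊤ →
      ∀ A : Set G, A ⊆ (S : Set G) → ∀ g ∈ Y, (∀ a ∈ A, g * a * g⁻¹ ∈ S) → Ctl (nz S) A g
  · obtain ⟨E, hE⟩ := exists_maximal S (normalizer_sylow_le S) hA hAg hn
    obtain ⟨L, h1, h2', h3, h4⟩ := hE.exists_minimal
    have hs : Setting S E L := ⟨hE, h1, h2', h3, h4, hproper⟩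
    exact ⟨hs.involves_fOver h2, hs.hasFullAut h2⟩
  · push Not at hproper
    obtain ⟨Y, hSY, hY, A', hA', g', hg', hA'g, hn'⟩ := hproper
    set T : Sylow p ↥Y := S.subtype hSY with hT
    have hTS : (T : Subgroup Y).map Y.subtype = (S : Subgroup G) := by
      rw [hT, Sylow.coe_subtype, map_subgroupOf_eq_of_le hSY]
    have hz := map_zj Y T hTS
    have hlt : Nat.card Y < n := hcard ▸ lt_of_le_of_ne
      (Nat.le_of_dvd Nat.card_pos (card_subgroup_dvd_card Y)) fun e => hY (eq_top_of_card_eq Y e)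
    have hnY : ¬ Ctl (nz T) (Y.subtype ⁻¹' A') ⟨g', hg'⟩ := by
      rintro ⟨x, hx, he⟩
      refine hn' ⟨x, ?_, fun a ha => congrArg Subtype.val (he ⟨a, hSY (hA' ha)⟩ ha)⟩
      show (x : G) ∈ normalizer (zj S : Set G)
      rw [← hz]
      exact le_normalizer_map Y.subtype ⟨x, hx, rfl⟩
    obtain ⟨hF, c, hc, hco, h₁, hh₁, w, hw, hwo⟩ := ih _ hlt ↥Y rfl T (Y.subtype ⁻¹' A') ⟨g', hg'⟩
      (fun a ha => hA' ha) (fun a ha => hA'g _ ha) hnY
    have hle : (nz T).map Y.subtype ≤ nz S := by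
      show _ ≤ normalizer (zj S : Set G)
      rw [← hz]
      exact le_normalizer_map Y.subtype
    refine ⟨ConjFun.involves_trans hF ?_, c, hz ▸ mem_map_of_mem _ hc,
      (Subgroup.orderOf_coe c).trans hco, h₁, hle (mem_map_of_mem _ hh₁), w, ?_, hwo⟩
    · exact ConjFun.involves_of_surjective (((nz T).map Y.subtype).subgroupOf (nz S))
        (((nz T).equivMapOfInjective Y.subtype Y.subtype_injective).symm.toMonoidHom.comp
          (subgroupOfEquivOfLe hle).toMonoidHom)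
        (((nz T).equivMapOfInjective Y.subtype Y.subtype_injective).symm.surjective.comp
          (subgroupOfEquivOfLe hle).surjective)
    · have := congrArg Subtype.val hw
      simpa using this

omit [Finite G] in
/-- An element inducing a generator on an element of order `p`. -/
theorem relIndex_eq_of_hasFullAut [Finite G] {Z H : Subgroup G} (h : HasFullAut p Z H) :
    ∃ C : Subgroup G, C ≤ Z ∧ Nat.card C = p ∧
      (H ⊓ centralizer (C : Set G)).relIndex (H ⊓ normalizer (C : Set G)) = p - 1 := by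
  have hp := (Fact.out : p.Prime)
  obtain ⟨c, hc, hco, h₁, hh₁, w, hw, hwo⟩ := h
  set C := zpowers c with hC
  refine ⟨C, zpowers_le.2 hc, by rw [hC, Nat.card_zpowers, hco], ?_⟩
  set N := H ⊓ normalizer (C : Set G) with hN
  let θ : ↥N →* MulAut ↥C := C.normalizerMonoidHom.comp (inclusion inf_le_right)
  have hker : θ.ker = (H ⊓ centralizer (C : Set G)).subgroupOf N := by
    rw [← MonoidHom.comap_ker, normalizerMonoidHom_ker]
    ext x
    exact ⟨fun hx => ⟨x.2.1, hx⟩, fun hx => hx.2⟩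
  rw [relIndex, ← hker, index_ker]
  haveI : Finite ↥C := inferInstance
  -- upper bound
  have hup : Nat.card θ.range ≤ p - 1 := by
    set c' : ↥C := ⟨c, mem_zpowers c⟩
    have hc1 : c' ≠ 1 := fun e => hp.ne_one (by
      rw [← hco, show c = 1 from congrArg Subtype.val e, orderOf_one])
    let φ : θ.range → {u : ↥C // u ≠ 1} := fun σ => ⟨(σ : MulAut ↥C) c', fun e => hc1 (by
      have := congrArg (σ : MulAut ↥C).symm e
      simpa using this)⟩
    have hφ : Function.Injective φ := by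
      intro σ τ e
      refine Subtype.ext (MulEquiv.ext fun u => ?_)
      obtain ⟨k, hk⟩ := u.2
      have e' : (σ : MulAut ↥C) c' = (τ : MulAut ↥C) c' := congrArg Subtype.val e
      rw [show u = c' ^ k from Subtype.ext hk.symm, map_zpow, map_zpow, e']
    refine (Nat.card_le_card_of_injective φ hφ).trans (le_of_eq ?_)
    classical
    haveI := Fintype.ofFinite ↥C
    rw [Nat.card_eq_fintype_card]
    rw [Fintype.card_subtype_compl, Fintype.card_subtype_eq, ← Nat.card_eq_fintype_card,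
      Nat.card_zpowers, hco]
  -- lower bound
  have hh₁N : h₁ ∈ N := by
    refine ⟨hh₁, ?_⟩
    show h₁ ∈ normalizer ((zpowers c : Subgroup G) : Set G)
    rw [mem_normalizer_iff_map_conj_eq, MonoidHom.map_zpowers]
    refine eq_of_le_of_card_ge (zpowers_le.2 ?_) (le_of_eq ?_)
    · show h₁ * c * h₁⁻¹ ∈ zpowers c
      exact hw ▸ npow_mem_zpowers c w
    · rw [Nat.card_zpowers, Nat.card_zpowers]
      exact (orderOf_injective (MulAut.conj h₁).toMonoidHom (MulAut.conj h₁).injective c).symm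
  have hpow : ∀ k : ℕ, h₁ ^ k * c * (h₁ ^ k)⁻¹ = c ^ w ^ k := by
    intro k
    induction k with
    | zero => simp
    | succ k ih =>
      calc h₁ ^ (k + 1) * c * (h₁ ^ (k + 1))⁻¹ = h₁ * (h₁ ^ k * c * (h₁ ^ k)⁻¹) * h₁⁻¹ := by
            rw [pow_succ']; group
        _ = h₁ * c ^ w ^ k * h₁⁻¹ := by rw [ih]
        _ = (h₁ * c * h₁⁻¹) ^ w ^ k := conj_pow.symm
        _ = _ := by rw [hw, ← pow_mul, pow_succ']
  have hord : p - 1 ∣ orderOf (θ ⟨h₁, hh₁N⟩) := by
    rw [← hwo]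
    refine orderOf_dvd_of_pow_eq_one ?_
    set k := orderOf (θ ⟨h₁, hh₁N⟩)
    have h3 : θ (⟨h₁, hh₁N⟩ ^ k) = 1 := by rw [map_pow]; exact pow_orderOf_eq_one _
    have h4 := congrArg (fun σ : MulAut ↥C => ((σ ⟨c, mem_zpowers c⟩ : ↥C) : G)) h3
    have h5 : c ^ w ^ k = c := by
      rw [← hpow]
      simpa [θ] using h4
    have h6 : w ^ k ≡ 1 [MOD p] := by
      rw [← hco, ← pow_eq_pow_iff_modEq, pow_one]; exact h5
    have h7 := (ZMod.natCast_eq_natCast_iff _ _ _).2 h6
    push_cast at h7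
    exact h7
  refine le_antisymm hup (Nat.le_of_dvd Nat.card_pos ?_)
  refine hord.trans ?_
  rw [← MonoidHom.coe_rangeRestrict, Subgroup.orderOf_coe]
  exact orderOf_dvd_natCard _

end Cfsg.Agent.ZJFailure
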