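import Cfsg.Agent.Lib.ZJFailure.Element
import Cfsg.Agent.Lib.Quadratic.TorusPair

/-!
# A natural plane at a maximal failure of `N(Z(J(S)))`

* `Setting.exists_pair`: elements `a`, `b` of some `N_L(R)` acting quadratically on `B / D`, generating
  a group `K` that is not a `p`-group on the orbit of some `z ∈ Z₂`, such that the normalizer in `K` of
  a Sylow subgroup containing `a` consists of elements induced by `N(Z(J(S)))`;
* `Setting.exists_plane`: a subgroup `X` of induced elements acting on a subgroup `A ≤ B` as the upper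
  triangular group of `SL(2, p)` on the natural module, an element of `Z(J(S))` mapping to `(1, 0)`.
-/

set_option autoImplicit false
set_option linter.style.haveILetI false

namespace Cfsg.Agent.ZJFailure

open Subgroup
open scoped commutatorElement Pointwise MatrixGroups
open Cfsg.Agent.ZJControl (Ctl)

universe u

variable {G : Type u} [Group G] {p : ℕ}

/-- The `L`-conjugates of `x₀`. -/
def xSet (L : Subgroup G) (x₀ : G) : Set G := {y | ∃ l ∈ L, y = l * x₀ * l⁻¹}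

/-- `E` with the conjugates of `x₀` in `T`. -/
def rof (L E : Subgroup G) (x₀ : G) (T : Subgroup G) : Subgroup G :=
  E ⊔ closure (xSet L x₀ ∩ (T : Set G))

section Rof

variable {L E : Subgroup G} {x₀ : G}

theorem le_rof (T : Subgroup G) : E ≤ rof L E x₀ T := le_sup_left

theorem inter_subset_rof (T : Subgroup G) : xSet L x₀ ∩ (T : Set G) ⊆ rof L E x₀ T :=
  fun _ hy => mem_sup_right (subset_closure hy)

theorem rof_le {T : Subgroup G} (hE : E ≤ T) : rof L E x₀ T ≤ T :=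
  sup_le hE ((closure_le _).2 fun _ hy => hy.2)

theorem rof_mono {T U : Subgroup G} (h : T ≤ U) : rof L E x₀ T ≤ rof L E x₀ U :=
  sup_le_sup le_rfl (closure_mono (Set.inter_subset_inter_right _ h))

theorem rof_rof {T : Subgroup G} (hE : E ≤ T) : rof L E x₀ (rof L E x₀ T) = rof L E x₀ T :=
  le_antisymm (rof_mono (rof_le hE))
    (sup_le (le_rof _) ((closure_le _).2 fun _ hy =>
      inter_subset_rof _ ⟨hy.1, inter_subset_rof T hy⟩))

theorem rof_map (hLE : L ≤ normalizer (E : Set G)) {l : G} (hl : l ∈ L) (T : Subgroup G) :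
    (rof L E x₀ T).map (MulAut.conj l).toMonoidHom = rof L E x₀ (T.map (MulAut.conj l).toMonoidHom) := by
  have eE : E.map (MulAut.conj l).toMonoidHom = E := mem_normalizer_iff_map_conj_eq.1 (hLE hl)
  rw [rof, Subgroup.map_sup, MonoidHom.map_closure, eE, rof]
  congr 2
  ext y
  constructor
  · rintro ⟨x, ⟨⟨m, hm, rfl⟩, hx⟩, rfl⟩
    exact ⟨⟨l * m, mul_mem hl hm, by simp [mul_assoc]⟩, _, hx, rfl⟩
  · rintro ⟨⟨m, hm, rfl⟩, x, hx, hxe⟩
    refine ⟨x, ⟨⟨l⁻¹ * m, mul_mem (inv_mem hl) hm, ?_⟩, hx⟩, hxe⟩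
    have : l * x * l⁻¹ = m * x₀ * m⁻¹ := hxe
    rw [show x = l⁻¹ * (l * x * l⁻¹) * l by group, this]
    group

theorem mem_normalizer_rof (hLE : L ≤ normalizer (E : Set G)) {g : G} (hg : g ∈ L) {T : Subgroup G}
    (hT : g ∈ normalizer (T : Set G)) : g ∈ normalizer (rof L E x₀ T : Set G) := by
  rw [mem_normalizer_iff_map_conj_eq]
  exact (rof_map hLE hg T).trans (congrArg (rof L E x₀) (mem_normalizer_iff_map_conj_eq.1 hT))

/-- Growth inside a `p`-group. -/
theorem exists_mem_normalizer_of_not_subset [Fact p.Prime] [Finite G] (hLE : L ≤ normalizer (E : Set G))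
    {R U : Subgroup G} (hU : IsPGroup p U) (hUL : U ≤ L) (hRU : R ≤ U) (hR : rof L E x₀ R = R)
    (hne : ¬ xSet L x₀ ∩ (U : Set G) ⊆ R) :
    ∃ y ∈ xSet L x₀, y ∈ U ∧ y ∉ R ∧ y ∈ normalizer (R : Set G) := by
  by_contra! hcon
  set N₁ := U ⊓ normalizer (R : Set G) with hN₁
  have hsub : xSet L x₀ ∩ (N₁ : Set G) ⊆ R := fun y hy => by
    by_contra hyR
    exact hcon y hy.1 hy.2.1 hyR hy.2.2
  have hrof : rof L E x₀ N₁ = R := by
    refine le_antisymm (sup_le (hR ▸ le_rof R) ((closure_le _).2 hsub)) ?_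
    conv_lhs => rw [← hR]
    exact rof_mono (le_inf hRU le_normalizer)
  rcases eq_or_lt_of_le (inf_le_left : N₁ ≤ U) with he | hlt
  · exact hne (he ▸ hsub)
  · refine (Transfer.lt_inf_normalizer_of_lt hU hlt).not_ge (le_inf inf_le_left fun g hg => ?_)
    rw [← hrof]
    exact mem_normalizer_rof hLE (hUL hg.1) hg.2

end Rof

/-- Additive endomorphisms are `ZMod p`-linear. -/
def zmodEnd (p : ℕ) (W : Type*) [AddCommGroup W] [Module (ZMod p) W] :
    AddMonoid.End W →* Module.End (ZMod p) W where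
  toFun f := AddMonoidHom.toZModLinearMap p f
  map_one' := LinearMap.ext fun _ => rfl
  map_mul' _ _ := LinearMap.ext fun _ => rfl

/-- A plane on which induced elements act as the upper triangular group. -/
def HasPlane (p : ℕ) [Fact p.Prime] (Z M Bnd : Subgroup G) : Prop :=
  ∃ (X A : Subgroup G) (hXA : X ≤ normalizer (A : Set G)) (π : X →* SL(2, ZMod p))
    (g : A →* Multiplicative (Fin 2 → ZMod p)),
    X ≤ M ∧ A ≤ Bnd ∧ π.range = PSL2.borel (ZMod p) ∧ Function.Surjective g ∧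
      (∃ z : A, (z : G) ∈ Z ∧ (g z).toAdd = ![1, 0]) ∧
      ∀ (x : X) (a : A), g ⟨(x : G) * a * (x : G)⁻¹, (mem_normalizer_iff.1 (hXA x.2) a).1 a.2⟩ =
        Multiplicative.ofAdd ((π x : Matrix (Fin 2) (Fin 2) (ZMod p)).mulVec (g a).toAdd)

namespace Setting

variable [Finite G] [Fact p.Prime] {S : Sylow p G} {E L : Subgroup G} (h : Setting S E L)
include h

omit [Finite G] [Fact p.Prime] h in
theorem quad_conj {x : G} (hx : Quad S L x) {l : G} (hl : l ∈ L) : Quad S L (l * x * l⁻¹) := by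
  intro b hb
  have h1 := hx _ ((mem_normalizer_iff.1 (bSub_le_normalizer (inv_mem hl)) b).1 hb)
  rw [show ⁅l * x * l⁻¹, ⁅l * x * l⁻¹, b⁆⁆ = l * ⁅x, ⁅x, l⁻¹ * b * l⁻¹⁻¹⁆⁆ * l⁻¹ by
    simp [commutatorElement_def, mul_assoc]]
  exact (mem_normalizer_iff.1 (dSub_le_normalizer hl) _).1 h1

theorem relIndex_le_good {M : Subgroup G} (hP : nS S E ≤ M) (hM : M ≤ normalizer (E : Set G)) :
    ¬ p ∣ (nS S E).relIndex M := fun hdvd =>
  h.max.sylow (hdvd.trans (Dvd.intro _ (relIndex_mul_relIndex _ _ _ hP hM)))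

set_option maxHeartbeats 1000000 in
/-- A pair of quadratic elements with an induced Sylow normalizer. -/
theorem exists_pair (h2 : p ≠ 2) : ∃ (a b z : G) (K : Subgroup G) (T : Sylow p K) (ha : a ∈ K),
    K = closure {a, b} ∧ K ≤ L ∧ Quad S L a ∧ Quad S L b ∧ z ∈ zTwo S ∧ ⁅a, z⁆ ∈ dSub S L ∧
    (⟨a, ha⟩ : K) ∈ T ∧
    (¬ ∀ c : K, ∃ k : ℕ, ∀ g : K, ⁅((c ^ p ^ k : K) : G), (g : G) * z * (g : G)⁻¹⁆ ∈ dSub S L) ∧
    ∀ n : K, n ∈ normalizer ((T : Subgroup K) : Set K) → (n : G) ∈ good (nz S) E := by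
  obtain ⟨x₀, hx₀, hx₀E, hq₀⟩ := h.exists_quad h2
  obtain ⟨z, hz, hzne⟩ := h.exists_not_stab
  set M := good (nz S) E with hM
  have hLE := h.le_norm
  have hEL : E ≤ L := h.max.le_nS.trans h.nS_le
  have hPM : nS S E ≤ L ⊓ M := le_inf h.nS_le h.max.nS_le_good
  have hx₀X : x₀ ∈ xSet L x₀ := ⟨1, one_mem _, by simp⟩
  have hXL : ∀ y ∈ xSet L x₀, y ∈ L := by
    rintro _ ⟨l, hl, rfl⟩
    exact mul_mem (mul_mem hl (h.nS_le hx₀)) (inv_mem hl)
  have hXq : ∀ y ∈ xSet L x₀, Quad S L y := by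
    rintro _ ⟨l, hl, rfl⟩
    exact quad_conj hq₀ hl
  -- a maximal `R`
  obtain ⟨R, ⟨hRP, hRrof, hRM⟩, hRmax⟩ := (Set.toFinite {R : Subgroup G | R ≤ nS S E ∧
      rof L E x₀ R = R ∧ ¬ L ⊓ normalizer (R : Set G) ≤ M}).exists_maximalFor
    (fun R : Subgroup G => Nat.card R) _ ⟨E, h.max.le_nS,
      le_antisymm (rof_le le_rfl) (le_rof E), by
        rw [inf_eq_left.2 hLE]; exact h.not_le⟩
  have hER : E ≤ R := hRrof ▸ le_rof R
  -- larger members are controlled
  have key1 : ∀ T : Subgroup G, IsPGroup p T → E ≤ T → T ≤ L ⊓ M → R < rof L E x₀ T →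
      L ⊓ normalizer (rof L E x₀ T : Set G) ≤ M := by
    intro T hT hET hTM hlt
    obtain ⟨l, hl, hlP⟩ := exists_conj_le h.max.isPGroup_nS
      (h.relIndex_le_good hPM (inf_le_left.trans hLE)) hT hTM
    obtain ⟨hlL, hlM⟩ := mem_inf.1 hl
    set R'' := (rof L E x₀ T).map (MulAut.conj l).toMonoidHom with hR''
    have hR''P : R'' ≤ nS S E := by
      rintro _ ⟨r, hr, rfl⟩
      exact hlP r (rof_le hET hr)
    by_contra hcon
    have hr'' : rof L E x₀ R'' = R'' := by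
      rw [hR'', ← rof_map hLE hlL, rof_rof hET]
    have hN : ¬ L ⊓ normalizer (R'' : Set G) ≤ M := by
      intro hle
      apply hcon
      intro g hg
      obtain ⟨hgL, hgN⟩ := mem_inf.1 hg
      have h1 : l * g * l⁻¹ ∈ M := hle (mem_inf.2 ⟨mul_mem (mul_mem hlL hgL) (inv_mem hlL),
        le_normalizer_map (MulAut.conj l).toMonoidHom ⟨g, hgN, rfl⟩⟩)
      have := mul_mem (mul_mem (inv_mem hlM) h1) hlM
      simpa [mul_assoc] using this
    have hcard : Nat.card R < Nat.card R'' := by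
      rw [hR'', card_map_of_injective (MulAut.conj l).injective]
      by_contra hle
      exact hlt.ne (eq_of_le_of_card_ge hlt.le (not_lt.1 hle))
    have := hRmax (j := R'') ⟨hR''P, hr'', hN⟩ hcard.le
    simp only at this
    omega
  -- conjugates of `x₀` in a `p`-group over `R` with one induced conjugate outside `R` are induced
  have maxU : ∀ U : Subgroup G, IsPGroup p U → U ≤ L → R ≤ U →
      ∀ y ∈ xSet L x₀, y ∈ U → y ∈ M → y ∉ R → xSet L x₀ ∩ (U : Set G) ⊆ (M : Set G) := by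
    intro U hU hUL hRU y hy hyU hyM hyR
    by_contra hcon
    set R' := rof L E x₀ (U ⊓ M) with hR'
    have hEUM : E ≤ U ⊓ M := le_inf (hER.trans hRU) h.max.le_good
    have hR'UM : R' ≤ U ⊓ M := rof_le hEUM
    have hlt : R < R' := by
      refine lt_of_le_of_ne ?_ fun e => hyR (e ▸ inter_subset_rof (U ⊓ M) ⟨hy, hyU, hyM⟩)
      conv_lhs => rw [← hRrof]
      exact rof_mono (le_inf hRU (hRP.trans h.max.nS_le_good))
    obtain ⟨y', hy', hy'U, hy'R, hy'N⟩ := exists_mem_normalizer_of_not_subset hLE hU hUL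
      (hR'UM.trans inf_le_left) (rof_rof hEUM) (fun hsub => hcon fun w hw => (hR'UM (hsub hw)).2)
    have := key1 (U ⊓ M) (hU.to_le inf_le_left) hEUM (inf_le_inf_right _ hUL) hlt ⟨hXL y' hy', hy'N⟩
    exact hy'R (inter_subset_rof _ ⟨hy', hy'U, this⟩)
  -- a conjugate of `x₀` in `N_S(E)` normalizing `R`
  obtain ⟨x₁, hx₁, hx₁P, hx₁R, hx₁N⟩ : ∃ y ∈ xSet L x₀, y ∈ nS S E ∧ y ∉ R ∧
      y ∈ normalizer (R : Set G) := by
    refine exists_mem_normalizer_of_not_subset hLE h.max.isPGroup_nS h.nS_le hRP hRrof fun hsub => ?_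
    set Rf := rof L E x₀ (nS S E) with hRf
    have hlt : E < Rf := lt_of_le_of_ne (le_rof _) fun e =>
      hx₀E (e ▸ inter_subset_rof (nS S E) ⟨hx₀X, hx₀⟩)
    have hRfn : nS S E ≤ normalizer (Rf : Set G) := fun g hg =>
      mem_normalizer_rof hLE (h.nS_le hg) (le_normalizer hg)
    have heq : Rf = R := le_antisymm (sup_le hER ((closure_le _).2 hsub)) (by
      conv_lhs => rw [← hRrof]
      exact rof_mono hRP)
    refine hRM fun g hg => h.max.mem_good_of_lt hlt (rof_le h.max.le_nS) hRfn ?_ (hLE hg.1)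
    exact heq ▸ hg.2
  have hx₁M : x₁ ∈ M := h.max.nS_le_good hx₁P
  -- a conjugate of `x₀` normalizing `R` and not induced
  obtain ⟨y, hy, hyN, hyM⟩ : ∃ y ∈ xSet L x₀, y ∈ normalizer (R : Set G) ∧ y ∉ M := by
    by_contra! hcon
    set LR := L ⊓ normalizer (R : Set G) with hLR
    have hRLR : R ≤ LR := le_inf (hRP.trans h.nS_le) le_normalizer
    set W := R ⊔ closure {x₁} with hW
    have hWP : W ≤ nS S E := sup_le hRP ((closure_le _).2 (Set.singleton_subset_iff.2 hx₁P))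
    have hWLR : W ≤ LR := sup_le hRLR ((closure_le _).2 (Set.singleton_subset_iff.2 ⟨hXL _ hx₁, hx₁N⟩))
    obtain ⟨T₀, hT₀⟩ := ((h.max.isPGroup_nS.to_le hWP).comap_subtype (K := LR)).exists_le_sylow
    set T := (T₀ : Subgroup LR).map LR.subtype with hT
    have hWT : W ≤ T := fun w hw => ⟨⟨w, hWLR hw⟩, hT₀ hw, rfl⟩
    have hTidx : ¬ p ∣ T.relIndex LR := by
      rw [hT, relIndex, subgroupOf, comap_map_eq_self_of_injective LR.subtype_injective]
      exact T₀.not_dvd_index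
    set Y := R ⊔ closure (xSet L x₀ ∩ (LR : Set G)) with hY
    have hYM : Y ≤ M := sup_le (hRP.trans h.max.nS_le_good)
      ((closure_le _).2 fun w hw => hcon w hw.1 hw.2.2)
    have hYLR : Y ≤ LR := sup_le hRLR ((closure_le _).2 fun w hw => hw.2)
    have hYn : LR ≤ normalizer (Y : Set G) := by
      refine le_normalizer_sup inf_le_right fun g hg => ?_
      rw [mem_normalizer_iff_map_conj_eq, MonoidHom.map_closure]
      congr 1
      ext w
      constructor
      · rintro ⟨v, ⟨⟨m, hm, rfl⟩, hv⟩, rfl⟩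
        exact ⟨⟨g * m, mul_mem hg.1 hm, by simp [mul_assoc]⟩,
          mul_mem (mul_mem hg hv) (inv_mem hg)⟩
      · rintro ⟨⟨m, hm, rfl⟩, hv⟩
        refine ⟨g⁻¹ * (m * x₀ * m⁻¹) * g, ⟨⟨g⁻¹ * m, mul_mem (inv_mem hg.1) hm, by simp [mul_assoc]⟩,
          mul_mem (mul_mem (inv_mem hg) hv) hg⟩, by simp [mul_assoc]⟩
    refine hRM fun g hg => ?_
    obtain ⟨m, hm, n, hn, hnN, rfl⟩ := exists_mul_mem_normalizer (map_subtype_le _)
      (T₀.2.map LR.subtype) hTidx hYLR hYn hg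
    refine mul_mem (hYM hm) ?_
    have hRTY : R ≤ T ⊓ Y := le_inf (le_sup_left.trans hWT) le_sup_left
    have hx₁TY : x₁ ∈ T ⊓ Y := ⟨hWT (mem_sup_right (subset_closure rfl)),
      mem_sup_right (subset_closure ⟨hx₁, hXL _ hx₁, hx₁N⟩)⟩
    refine key1 (T ⊓ Y) ((T₀.2.map LR.subtype).to_le inf_le_left) (hER.trans hRTY)
      (le_inf ((inf_le_right.trans hYLR).trans inf_le_left) (inf_le_right.trans hYM)) ?_
      ⟨hn.1, mem_normalizer_rof hLE hn.1 hnN⟩
    refine lt_of_le_of_ne ?_ fun e => hx₁R (e ▸ inter_subset_rof (T ⊓ Y) ⟨hx₁, hx₁TY⟩)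
    conv_lhs => rw [← hRrof]
    exact rof_mono hRTY
  -- the pair
  set K := closure {x₁, y} with hK
  have haK : x₁ ∈ K := subset_closure (Set.mem_insert _ _)
  have hbK : y ∈ K := subset_closure (Set.mem_insert_of_mem _ rfl)
  have hKN : K ≤ L ⊓ normalizer (R : Set G) := by
    rw [hK, closure_le]
    rintro w (rfl | rfl)
    · exact ⟨hXL _ hx₁, hx₁N⟩
    · exact ⟨hXL _ hy, hyN⟩
  have hapow : IsPGroup p (zpowers (⟨x₁, haK⟩ : K)) := by
    obtain ⟨j, hj⟩ := h.max.isPGroup_nS ⟨x₁, hx₁P⟩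
    have hj' : x₁ ^ p ^ j = 1 := congrArg Subtype.val hj
    rintro ⟨w, i, rfl⟩
    refine ⟨j, Subtype.ext ?_⟩
    rw [Subgroup.coe_pow, Subgroup.coe_one, ← zpow_natCast, ← zpow_mul, mul_comm, zpow_mul,
      zpow_natCast, show (⟨x₁, haK⟩ : K) ^ p ^ j = 1 from Subtype.ext hj', one_zpow]
  obtain ⟨T, hT⟩ := hapow.exists_le_sylow
  have hp' : ∀ Q : Subgroup K, IsPGroup p Q → IsPGroup p (R ⊔ Q.map K.subtype : Subgroup G) :=
    fun Q hQ => (h.max.isPGroup_nS.to_le hRP).to_sup_of_normal_left' (hQ.map K.subtype)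
      ((map_subtype_le Q).trans (hKN.trans inf_le_right))
  have hUL : ∀ Q : Subgroup K, R ⊔ Q.map K.subtype ≤ L := fun Q =>
    sup_le (hRP.trans h.nS_le) ((map_subtype_le Q).trans (hKN.trans inf_le_left))
  refine ⟨x₁, y, z, K, T, haK, rfl, hKN.trans inf_le_left, hXq _ hx₁, hXq _ hy, hz, ?_,
    hT (mem_zpowers _), ?_, ?_⟩
  · rw [← inv_mem_iff, commutatorElement_inv]
    exact mem_sup_left (comm_mem_of_zTwo S hz hx₁P.1)
  · -- not a `p`-group on the orbit of `z`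
    intro hall
    set N : Subgroup K := ⨅ g : K, ((stab S L ((g : G) * z * (g : G)⁻¹)).comap K.subtype) with hN
    have hmemN : ∀ c : K, c ∈ N ↔ ∀ g : K, ⁅(c : G), (g : G) * z * (g : G)⁻¹⁆ ∈ dSub S L := fun c => by
      rw [hN, mem_iInf]
      exact ⟨fun hc g => (hc g).2, fun hc g => ⟨(hKN c.2).1, hc g⟩⟩
    haveI : N.Normal := by
      refine ⟨fun c hc m => (hmemN _).2 fun g => ?_⟩
      have h1 := (hmemN c).1 hc (m⁻¹ * g)
      rw [show ⁅((m * c * m⁻¹ : K) : G), (g : G) * z * (g : G)⁻¹⁆ =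
          (m : G) * ⁅(c : G), ((m⁻¹ * g : K) : G) * z * ((m⁻¹ * g : K) : G)⁻¹⁆ * (m : G)⁻¹ by
        simp [commutatorElement_def, mul_assoc]]
      exact (mem_normalizer_iff.1 (dSub_le_normalizer (hKN m.2).1) _).1 h1
    have hq : IsPGroup p (K ⧸ N) := by
      intro q
      obtain ⟨c, rfl⟩ := QuotientGroup.mk'_surjective N q
      obtain ⟨k, hk⟩ := hall c
      exact ⟨k, (QuotientGroup.eq_one_iff _).2 ((hmemN _).2 hk)⟩
    obtain ⟨j, hj⟩ := hq.exists_card_eq
    have hsup : N ⊔ (T : Subgroup K) = ⊤ := index_eq_one.1 (Nat.eq_one_of_dvd_coprimes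
      (((Fact.out : p.Prime).coprime_iff_not_dvd.mpr T.not_dvd_index).symm.pow_right j)
      (index_dvd_of_le le_sup_right) (hj ▸ index_dvd_of_le le_sup_left))
    have hby : IsPGroup p (zpowers (⟨y, hbK⟩ : K)) := by
      obtain ⟨l, hl, hle⟩ := hy
      obtain ⟨j', hj'⟩ := h.max.isPGroup_nS ⟨x₀, hx₀⟩
      have hj'' : x₀ ^ p ^ j' = 1 := congrArg Subtype.val hj'
      rintro ⟨w, i, rfl⟩
      refine ⟨j', Subtype.ext ?_⟩
      rw [Subgroup.coe_pow, Subgroup.coe_one, ← zpow_natCast, ← zpow_mul, mul_comm, zpow_mul,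
        zpow_natCast, show (⟨y, hbK⟩ : K) ^ p ^ j' = 1 from Subtype.ext (by
          show y ^ p ^ j' = 1
          rw [hle, conj_pow, hj'']; simp), one_zpow]
    obtain ⟨Q, hQ⟩ := hby.exists_le_sylow
    obtain ⟨k, hk⟩ := MulAction.exists_smul_eq K T Q
    obtain ⟨n, hn, t, ht, rfl⟩ := mem_sup_of_normal_left.1 (hsup.symm ▸ mem_top k : k ∈ N ⊔ (T : Subgroup K))
    rw [mul_smul, Sylow.smul_eq_iff_mem_normalizer.2 (le_normalizer ht)] at hk
    have hnM : (n : G) ∈ M := h.stab_le hz hzne ⟨(hKN n.2).1, by simpa using (hmemN n).1 hn 1⟩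
    set U := R ⊔ (Q : Subgroup K).map K.subtype with hU
    have hxU : (n : G) * x₁ * (n : G)⁻¹ ∈ U := by
      refine mem_sup_right ⟨n * ⟨x₁, haK⟩ * n⁻¹, ?_, rfl⟩
      rw [← hk, Sylow.coe_subgroup_smul]
      exact Subgroup.smul_mem_pointwise_smul _ (MulAut.conj n) _ (hT (mem_zpowers _))
    have hxR : (n : G) * x₁ * (n : G)⁻¹ ∉ R := fun hc =>
      hx₁R ((mem_normalizer_iff.1 (hKN n.2).2 x₁).2 hc)
    obtain ⟨l₁, hl₁, hl₁e⟩ := hx₁
    refine hyM (maxU U (hp' _ Q.2) (hUL _) le_sup_left _ ⟨(n : G) * l₁, mul_mem (hKN n.2).1 hl₁, ?_⟩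
      hxU (mul_mem (mul_mem hnM hx₁M) (inv_mem hnM)) hxR
      ⟨hy, mem_sup_right ⟨_, hQ (mem_zpowers _), rfl⟩⟩)
    rw [hl₁e]; group
  · -- the normalizer of `T` is induced
    intro n hn
    set U := R ⊔ (T : Subgroup K).map K.subtype with hU
    have hx₁U : x₁ ∈ U := mem_sup_right ⟨⟨x₁, haK⟩, hT (mem_zpowers _), rfl⟩
    have hnU : (n : G) ∈ normalizer (U : Set G) :=
      le_normalizer_sup (L := normalizer (R : Set G) ⊓
          normalizer (((T : Subgroup K).map K.subtype : Subgroup G) : Set G)) inf_le_left inf_le_right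
        ⟨(hKN n.2).2, le_normalizer_map K.subtype ⟨n, hn, rfl⟩⟩
    have hsub := maxU U (hp' _ T.2) (hUL _) le_sup_left x₁ hx₁ hx₁U hx₁M hx₁R
    have hEU : E ≤ U := hER.trans le_sup_left
    set U' := rof L E x₀ U with hU'
    have hU'M : U' ≤ M := sup_le h.max.le_good ((closure_le _).2 hsub)
    have hU'' : rof L E x₀ U' = U' := rof_rof hEU
    refine key1 U' ((hp' _ T.2).to_le (rof_le hEU)) (le_rof _) (le_inf ((rof_le hEU).trans (hUL _)) hU'M) ?_
      ⟨(hKN n.2).1, mem_normalizer_rof hLE (hKN n.2).1 (mem_normalizer_rof hLE (hKN n.2).1 hnU)⟩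
    rw [hU'']
    refine lt_of_le_of_ne ?_ fun e => hx₁R (e ▸ inter_subset_rof U ⟨hx₁, hx₁U⟩)
    conv_lhs => rw [← hRrof]
    exact rof_mono le_sup_left

set_option maxHeartbeats 1000000 in
/-- **A natural plane of induced elements.** -/
theorem exists_plane (h2 : p ≠ 2) : HasPlane p (zj S) (good (nz S) E) (bSub S L) := by
  obtain ⟨a, b, z, K, T, haK, hKab, hKL, hqa, hqb, hz, haz, haT, hnp, hN⟩ := h.exists_pair h2
  set B := bSub S L
  set D := dSub S L
  set D' := D.subgroupOf B with hD'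
  haveI : D'.Normal := by
    refine ⟨fun x hx v => ?_⟩
    show (v : G) * x * (v : G)⁻¹ ∈ D
    exact (mem_normalizer_iff.1 (dSub_le_normalizer
      (h.nS_le (h.max.le_nS (h.bSub_le v.2)))) _).1 hx
  set mk := QuotientGroup.mk' D'
  have hmk : ∀ u v : B, mk u = mk v ↔ (u : G)⁻¹ * v ∈ D := fun u v => QuotientGroup.eq
  let _ : CommGroup (B ⧸ D') :=
    { (inferInstance : Group (B ⧸ D')) with
      mul_comm := fun u v => by
        obtain ⟨u, rfl⟩ := QuotientGroup.mk'_surjective D' u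
        obtain ⟨v, rfl⟩ := QuotientGroup.mk'_surjective D' v
        exact (mk_comm_iff D' u v).2 (show ⁅(u : G), (v : G)⁆ ∈ D from
          mem_sup_left (h.comm_bSub h.zTwo_le' u.2 (h.bSub_le v.2))) }
  have : Module (ZMod p) (Additive (↥B ⧸ D')) := AddCommGroup.zmodModule fun w => by
    obtain ⟨u, hu⟩ := QuotientGroup.mk'_surjective D' (Additive.toMul w)
    show Additive.ofMul ((Additive.toMul w) ^ p) = 0
    rw [← hu, ← map_pow]
    exact congrArg Additive.ofMul ((QuotientGroup.eq_one_iff _).2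
      (show ((u ^ p : B) : G) ∈ D from mem_sup_right (subset_closure ⟨u, u.2, rfl⟩)))
  have hKB : K ≤ normalizer (B : Set G) := hKL.trans bSub_le_normalizer
  let act : K → (B ⧸ D' →* B ⧸ D') := fun k => QuotientGroup.map D' D'
    (B.normalizerMonoidHom ⟨(k : G), hKB k.2⟩).toMonoidHom fun w hw => by
      show (k : G) * w * (k : G)⁻¹ ∈ D
      exact (mem_normalizer_iff.1 (dSub_le_normalizer (hKL k.2)) _).1 hw
  let ρ₁ : K →* AddMonoid.End (Additive (B ⧸ D')) :=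
    { toFun := fun k => MonoidHom.toAdditive (act k)
      map_one' := by
        refine AddMonoidHom.ext fun w => ?_
        obtain ⟨u, hu⟩ := QuotientGroup.mk'_surjective D' (Additive.toMul w)
        obtain rfl : w = Additive.ofMul (mk u) := (congrArg Additive.ofMul hu).symm
        refine congrArg (fun u' : B => Additive.ofMul (mk u')) (Subtype.ext ?_)
        show ((1 : K) : G) * u * ((1 : K) : G)⁻¹ = u
        simp
      map_mul' := fun k k' => by
        refine AddMonoidHom.ext fun w => ?_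
        obtain ⟨u, hu⟩ := QuotientGroup.mk'_surjective D' (Additive.toMul w)
        obtain rfl : w = Additive.ofMul (mk u) := (congrArg Additive.ofMul hu).symm
        refine congrArg (fun u' : B => Additive.ofMul (mk u')) (Subtype.ext ?_)
        show ((k * k' : K) : G) * u * ((k * k' : K) : G)⁻¹ =
          (k : G) * ((k' : G) * u * (k' : G)⁻¹) * (k : G)⁻¹
        simp [mul_assoc] }
  let ρ : K →* Module.End (ZMod p) (Additive (↥B ⧸ D')) := (zmodEnd p (Additive (↥B ⧸ D'))).comp ρ₁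
  let cl : B → Additive (B ⧸ D') := fun u => Additive.ofMul (mk u)
  have hρ : ∀ (k : K) (u : B), ρ k (cl u) =
      cl ⟨(k : G) * u * (k : G)⁻¹, (mem_normalizer_iff.1 (hKB k.2) u).1 u.2⟩ := fun k u => rfl
  have hsub : ∀ u v : B, cl u - cl v = cl (u * v⁻¹) := fun u v => by
    show _ = Additive.ofMul (mk (u * v⁻¹))
    rw [map_mul, map_inv, ofMul_mul, ofMul_inv, ← sub_eq_add_neg]
  have hdev : ∀ (k : K) (u : B), ∃ hm : ⁅(k : G), (u : G)⁆ ∈ B, (ρ k - 1) (cl u) = cl ⟨_, hm⟩ := by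
    intro k u
    have hm : ⁅(k : G), (u : G)⁆ ∈ B := by
      rw [commutatorElement_def]
      exact mul_mem ((mem_normalizer_iff.1 (hKB k.2) u).1 u.2) (inv_mem u.2)
    refine ⟨hm, ?_⟩
    rw [LinearMap.sub_apply, Module.End.one_apply, hρ, hsub]
    congr 1
  have hquad : ∀ k : K, Quad S L k → (ρ k - 1) * (ρ k - 1) = 0 := by
    intro k hk
    refine LinearMap.ext fun w => ?_
    obtain ⟨u, hu⟩ := QuotientGroup.mk'_surjective D' (Additive.toMul w)
    obtain rfl : w = cl u := (congrArg Additive.ofMul hu).symm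
    obtain ⟨hm, e⟩ := hdev k u
    obtain ⟨hm', e'⟩ := hdev k ⟨_, hm⟩
    rw [Module.End.mul_apply, e, e', LinearMap.zero_apply]
    exact congrArg Additive.ofMul ((QuotientGroup.eq_one_iff _).2 (hk u u.2))
  have hbK : b ∈ K := hKab ▸ subset_closure (Set.mem_insert_of_mem _ rfl)
  have hgen : closure ({⟨a, haK⟩, ⟨b, hbK⟩} : Set K) = ⊤ := by
    apply map_injective K.subtype_injective
    rw [MonoidHom.map_closure, Set.image_pair, ← MonoidHom.range_eq_map, range_subtype]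
    exact hKab.symm
  let z' : B := ⟨z, zTwo_le_bSub hz⟩
  have hfix : ρ ⟨a, haK⟩ (cl z') = cl z' := by
    obtain ⟨hm, e⟩ := hdev ⟨a, haK⟩ z'
    have e0 : (ρ ⟨a, haK⟩ - 1) (cl z') = 0 := e.trans
      (congrArg Additive.ofMul ((QuotientGroup.eq_one_iff _).2 haz))
    rwa [LinearMap.sub_apply, Module.End.one_apply, sub_eq_zero] at e0
  have hnp' : ¬ ∀ c : K, ∃ k : ℕ, ∀ g : K, ρ (c ^ p ^ k) (ρ g (cl z')) = ρ g (cl z') := by
    intro hall
    refine hnp fun c => ?_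
    obtain ⟨k, hk⟩ := hall c
    refine ⟨k, fun g => ?_⟩
    have h1 := hk g
    rw [hρ g z'] at h1
    obtain ⟨hm, e⟩ := hdev (c ^ p ^ k) ⟨(g : G) * z * (g : G)⁻¹, (mem_normalizer_iff.1 (hKB g.2) z).1 z'.2⟩
    rw [LinearMap.sub_apply, Module.End.one_apply, h1, sub_self] at e
    exact (QuotientGroup.eq_one_iff (⟨_, hm⟩ : B)).1 (congrArg Additive.toMul e.symm)
  obtain ⟨X, α, W₁, c, hzW, hXT, hα, hc, hcz, he⟩ := Quadratic.exists_torus_plane h2 hgen ρ
    (hquad _ hqa) (hquad _ hqb) hfix hnp' T haT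
  -- back to subgroups
  let A : Subgroup G := (({ carrier := {u : B | cl u ∈ W₁}
                            one_mem' := W₁.zero_mem
                            mul_mem' := fun hu hv => W₁.add_mem hu hv
                            inv_mem' := fun hu => W₁.neg_mem hu } : Subgroup B)).map B.subtype
  have hAmem : ∀ g ∈ A, ∃ hg : g ∈ B, cl ⟨g, hg⟩ ∈ W₁ := by
    rintro _ ⟨u, hu, rfl⟩; exact ⟨u.2, hu⟩
  let g : A →* Multiplicative (Fin 2 → ZMod p) :=
    MonoidHom.mk' (fun u => Multiplicative.ofAdd (c ⟨cl ⟨u, (hAmem u u.2).1⟩, (hAmem u u.2).2⟩))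
      fun u v => by
        rw [← ofAdd_add, ← map_add]
        rfl
  set X' := X.map K.subtype with hX'
  let e := X.equivMapOfInjective K.subtype K.subtype_injective
  have hconj : ∀ (x : X') (v : G) (hv : v ∈ A), ∃ hB : (x : G) * v * (x : G)⁻¹ ∈ B,
      cl ⟨_, hB⟩ = ρ ((e.symm x : X) : K) (cl ⟨v, (hAmem v hv).1⟩) ∧
      (x : G) * v * (x : G)⁻¹ ∈ A := by
    intro x v hv
    obtain ⟨hvB, hvW⟩ := hAmem v hv
    obtain ⟨x₀, rfl⟩ := e.surjective x
    rw [MulEquiv.symm_apply_apply]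
    obtain ⟨hh, -⟩ := he x₀ ⟨cl ⟨v, hvB⟩, hvW⟩
    have hB : ((e x₀ : X') : G) * v * ((e x₀ : X') : G)⁻¹ ∈ B :=
      (mem_normalizer_iff.1 (hKB (x₀ : K).2) v).1 hvB
    refine ⟨hB, (hρ (x₀ : K) ⟨v, hvB⟩).symm, ⟨_, hB⟩, ?_, rfl⟩
    have e1 : ρ (x₀ : K) (cl ⟨v, hvB⟩) = cl ⟨_, hB⟩ := hρ _ _
    exact (congrArg (fun w => w ∈ W₁) e1).mp hh
  have hXA : X' ≤ normalizer (A : Set G) := by
    intro w hw
    rw [mem_normalizer_iff]
    refine fun v => ⟨fun hv => (hconj ⟨w, hw⟩ v hv).2.2, fun hv => ?_⟩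
    have := (hconj ⟨w⁻¹, inv_mem hw⟩ _ hv).2.2
    simpa [mul_assoc] using this
  refine ⟨X', A, hXA, α.comp e.symm.toMonoidHom, g, ?_, map_subtype_le _, ?_, ?_,
    ⟨⟨z, ⟨z', hzW, rfl⟩⟩, zTwo_le_zj S hz, hcz⟩, fun x v => ?_⟩
  · rintro _ ⟨x, hx, rfl⟩
    exact hN x (hXT hx)
  · rw [← hα]
    ext w
    exact ⟨fun ⟨u, hu⟩ => ⟨e.symm u, hu⟩, fun ⟨u, hu⟩ => ⟨e u, by simpa using hu⟩⟩
  · intro w
    obtain ⟨⟨u, hu⟩, hu'⟩ := hc w.toAdd
    obtain ⟨v, hv⟩ := QuotientGroup.mk'_surjective D' (Additive.toMul u)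
    obtain rfl : u = cl v := (congrArg Additive.ofMul hv).symm
    exact ⟨⟨v, v, hu, rfl⟩, congrArg Multiplicative.ofAdd hu'⟩
  · obtain ⟨x₀, rfl⟩ := e.surjective x
    obtain ⟨hh, heq⟩ := he x₀ ⟨cl ⟨v, (hAmem v v.2).1⟩, (hAmem v v.2).2⟩
    simp only [MonoidHom.comp_apply, MulEquiv.coe_toMonoidHom, MulEquiv.symm_apply_apply]
    exact congrArg Multiplicative.ofAdd heq

end Setting

end Cfsg.Agent.ZJFailure
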